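import Groth.Agent.L05.Rig.Closed
import Mathlib.RingTheory.Unramified.LocalRing
import Mathlib.RingTheory.Etale.Basic
import Mathlib.LinearAlgebra.TensorProduct.Quotient

/-!
# Rig-closed points in algebras that are unramified modulo the ideal of definition
-/

set_option autoImplicit false

universe u

namespace Groth.L05.Rig

open TensorProduct

theorem formallyUnramified_of_quotient {R E : Type u} [CommRing R] [CommRing E] [Algebra R E]
    [Algebra.EssFiniteType R E] (m : Ideal R)
    (hle : m.map (algebraMap R E) ≤ Ideal.jacobson ⊥)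
    [Algebra.FormallyUnramified R (E ⧸ m.map (algebraMap R E))] : Algebra.FormallyUnramified R E := by
  constructor
  let S := E ⧸ m.map (algebraMap R E)
  have hs : Subsingleton (S ⊗[E] Ω[E⁄R]) := by
    refine subsingleton_of_forall_eq 0 fun x => ?_
    obtain ⟨x, rfl⟩ := (KaehlerDifferential.exact_kerCotangentToTensor_mapBaseChange R E
      S Ideal.Quotient.mk_surjective x).mp (Subsingleton.elim _ _)
    obtain ⟨⟨x, hx⟩, rfl⟩ := Ideal.toCotangent_surjective _ x
    simp only [KaehlerDifferential.kerCotangentToTensor_toCotangent]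
    replace hx : x ∈ m.map (algebraMap R E) := by
      rw [RingHom.mem_ker] at hx
      exact Ideal.Quotient.eq_zero_iff_mem.mp hx
    induction hx using Submodule.span_induction with
    | zero => simp
    | mem x h => obtain ⟨x, hx, rfl⟩ := h; simp
    | add x y hx hy _ _ => simp [*, TensorProduct.tmul_add]
    | smul a x hx _ =>
      have : algebraMap E S x = 0 := Ideal.Quotient.eq_zero_iff_mem.mpr hx
      simp [*, TensorProduct.tmul_add, TensorProduct.smul_tmul', ← Algebra.algebraMap_eq_smul_one]
  haveI : Subsingleton (Ω[E⁄R] ⧸ (m.map (algebraMap R E) • (⊤ : Submodule E Ω[E⁄R]))) :=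
    (TensorProduct.quotTensorEquivQuotSMul Ω[E⁄R] (m.map (algebraMap R E))).symm.injective.subsingleton
  have htop : (⊤ : Submodule E Ω[E⁄R]) ≤ m.map (algebraMap R E) • ⊤ :=
    (Submodule.Quotient.subsingleton_iff.mp inferInstance).ge
  haveI : Module.Finite E Ω[E⁄R] := inferInstance
  have hbot := Submodule.eq_bot_of_le_smul_of_le_jacobson_bot _ _ Module.Finite.fg_top htop hle
  exact Submodule.subsingleton_iff E |>.mp (subsingleton_iff_bot_eq_top.mp hbot.symm)

section Relative

variable {A : Type u} [CommRing A] [IsNoetherianRing A] {I : Ideal A} [IsAdicComplete I A]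
  {B : Type u} [CommRing B] [Algebra A B] [IsNoetherianRing B] [IsAdicComplete (I.map (algebraMap A B)) B]

theorem map_comap_eq_maximalIdeal (hft : Algebra.FiniteType A (B ⧸ I.map (algebraMap A B)))
    [Algebra.FormallyUnramified A (B ⧸ I.map (algebraMap A B))] (q : Ideal B) [q.IsPrime]
    (hp : RigClosed I ⟨q.comap (algebraMap A B), Ideal.comap_isPrime _ _⟩) :
    ((q.comap (algebraMap A B)).map (algebraMap A B)).map (algebraMap B (Localization.AtPrime q)) =
      IsLocalRing.maximalIdeal (Localization.AtPrime q) := by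
  haveI := hft
  let p := q.comap (algebraMap A B)
  haveI : p.IsPrime := Ideal.comap_isPrime _ _
  obtain ⟨-, hm, hcompl⟩ := props_of_dim_eq_one (dim_eq_one_of_rigClosed hp)
  let R := A ⧸ p
  let m := (I.map (Ideal.Quotient.mk p)).radical
  haveI : IsAdicComplete m R := hcompl
  obtain ⟨M, hM⟩ := Ideal.exists_maximal R
  haveI hmmax : m.IsMaximal := by
    have e : M = m := hm M hM
    exact e ▸ hM
  let pB := p.map (algebraMap A B)
  let E := B ⧸ pB
  letI : Algebra R E := Ideal.Quotient.algebraQuotientMapQuotient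
  haveI : IsScalarTower A R E := IsScalarTower.of_algebraMap_eq fun _ => rfl
  let mE := m.map (algebraMap R E)
  have eI : (I.map (algebraMap A B)).map (Ideal.Quotient.mk pB) =
      (I.map (Ideal.Quotient.mk p)).map (algebraMap R E) := by
    rw [Ideal.map_map, Ideal.map_map]; rfl
  haveI hEc : IsAdicComplete ((I.map (Ideal.Quotient.mk p)).map (algebraMap R E)) E :=
    eI ▸ isAdicComplete_quotient (I := I.map (algebraMap A B)) pB
  haveI : IsAdicComplete mE E := by
    obtain ⟨N, hN⟩ := Ideal.exists_radical_pow_le_of_fg (I.map (Ideal.Quotient.mk p))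
      (IsNoetherian.noetherian _)
    exact isAdicComplete_of_le_of_pow_le (Ideal.map_mono Ideal.le_radical) (N := N)
      (by rw [← Ideal.map_pow]; exact Ideal.map_mono hN)
  have hle : I.map (algebraMap A B) ≤ mE.comap (Ideal.Quotient.mkₐ A pB) :=
    Ideal.map_le_iff_le_comap.mp (eI.le.trans (Ideal.map_mono Ideal.le_radical))
  let φ : (B ⧸ I.map (algebraMap A B)) →ₐ[A] E ⧸ mE := Ideal.quotientMapₐ mE (Ideal.Quotient.mkₐ A pB) hle
  have hφ : Function.Surjective φ := Ideal.quotientMap_surjective (H := hle) Ideal.Quotient.mk_surjective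
  haveI : Algebra.FiniteType A (E ⧸ mE) := Algebra.FiniteType.of_surjective φ hφ
  haveI : Algebra.FormallyUnramified A (E ⧸ mE) := Algebra.FormallyUnramified.of_surjective φ hφ
  haveI : Algebra.FormallyUnramified R (E ⧸ mE) := Algebra.FormallyUnramified.of_restrictScalars A _ _
  letI := Ideal.Quotient.field m
  letI : Algebra (R ⧸ m) (E ⧸ mE) := Ideal.Quotient.algebraQuotientMapQuotient
  haveI : IsScalarTower R (R ⧸ m) (E ⧸ mE) := IsScalarTower.of_algebraMap_eq fun _ => rfl
  haveI : Algebra.FiniteType R (E ⧸ mE) := Algebra.FiniteType.of_restrictScalars_finiteType A _ _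
  haveI : Algebra.FiniteType (R ⧸ m) (E ⧸ mE) := Algebra.FiniteType.of_restrictScalars_finiteType R _ _
  haveI : Algebra.FormallyUnramified (R ⧸ m) (E ⧸ mE) := Algebra.FormallyUnramified.of_restrictScalars R _ _
  haveI : Module.Finite (R ⧸ m) (E ⧸ mE) := Algebra.FormallyUnramified.finite_of_free _ _
  haveI : Module.Finite R (E ⧸ mE) := Module.Finite.trans (R ⧸ m) (E ⧸ mE)
  haveI : Module.Finite R E := finite_of_finite_quotient (A := R) (I := m) E
  haveI : Algebra.FormallyUnramified R E :=
    formallyUnramified_of_quotient m (IsAdicComplete.le_jacobson_bot mE)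
  have hpq : pB ≤ q := Ideal.map_comap_le
  let qb := q.map (Ideal.Quotient.mk pB)
  haveI : qb.IsPrime := Ideal.map_isPrime_of_surjective Ideal.Quotient.mk_surjective
    (by rw [Ideal.mk_ker]; exact hpq)
  have hqb : ∀ b : B, Ideal.Quotient.mk pB b ∈ qb ↔ b ∈ q := fun b => by
    rw [← Ideal.mem_comap, Ideal.comap_map_of_surjective _ Ideal.Quotient.mk_surjective,
      ← RingHom.ker_eq_comap_bot, Ideal.mk_ker, sup_eq_left.mpr hpq]
  haveI : qb.LiesOver (⊥ : Ideal R) := ⟨by
    refine (eq_bot_iff.mpr fun x hx => ?_).symm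
    obtain ⟨a, rfl⟩ := Ideal.Quotient.mk_surjective x
    rw [Ideal.mem_bot, Ideal.Quotient.eq_zero_iff_mem]
    exact (hqb _).mp hx⟩
  haveI : Algebra.IsUnramifiedAt R qb := inferInstance
  letI := Localization.AtPrime.algebraOfLiesOver (⊥ : Ideal R) qb
  have hmax := ((Algebra.isUnramifiedAt_iff_map_eq R (⊥ : Ideal R) qb).mp inferInstance).2
  rw [Ideal.map_bot] at hmax
  refine le_antisymm ?_ ?_
  · rw [← Localization.AtPrime.map_eq_maximalIdeal]
    exact Ideal.map_mono hpq
  rw [← Localization.AtPrime.map_eq_maximalIdeal, Ideal.map_le_iff_le_comap]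
  intro x hx
  have h0 : algebraMap E (Localization.AtPrime qb) (Ideal.Quotient.mk pB x) = 0 := by
    have h1 : algebraMap E (Localization.AtPrime qb) (Ideal.Quotient.mk pB x) ∈
        IsLocalRing.maximalIdeal (Localization.AtPrime qb) := by
      rw [← Localization.AtPrime.map_eq_maximalIdeal]
      exact Ideal.mem_map_of_mem _ ((hqb x).mpr hx)
    rwa [← hmax, Ideal.mem_bot] at h1
  obtain ⟨⟨s, hs⟩, hsx⟩ := (IsLocalization.map_eq_zero_iff qb.primeCompl _ _).mp h0
  obtain ⟨s, rfl⟩ := Ideal.Quotient.mk_surjective s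
  rw [← map_mul, Ideal.Quotient.eq_zero_iff_mem] at hsx
  have hsu : IsUnit (algebraMap B (Localization.AtPrime q) s) :=
    IsLocalization.map_units _ (⟨s, fun h => hs ((hqb s).mpr h)⟩ : q.primeCompl)
  have := Ideal.mem_map_of_mem (algebraMap B (Localization.AtPrime q)) hsx
  rw [map_mul] at this
  exact (Ideal.unit_mul_mem_iff_mem _ hsu).mp this

end Relative

end Groth.L05.Rig
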