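import Groth.Agent.S9405
import Groth.Agent.L01.AdicNoeth
import Groth.Agent.L05.Chart.Lift
import Groth.Agent.L22.AffineDim
import Mathlib.RingTheory.Ideal.KrullsHeightTheorem
import Mathlib.RingTheory.Henselian
import Mathlib.RingTheory.Artinian.Ring
import Mathlib.RingTheory.HopkinsLevitzki
import Mathlib.RingTheory.KrullDimension.Zero
import Mathlib.RingTheory.Jacobson.Ring
import Mathlib.RingTheory.Flat.TorsionFree

/-!
# Rig-closed points of adic spectra
-/

set_option autoImplicit false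

universe u v

namespace Groth.L05.Rig

/-- A prime not containing `I`, maximal among these. -/
abbrev RigClosed {A : Type u} [CommRing A] (I : Ideal A) (q : PrimeSpectrum A) : Prop :=
  ¬ I ≤ q.asIdeal ∧ ∀ q' : PrimeSpectrum A, q ≤ q' → ¬ I ≤ q'.asIdeal → q' = q

section Domain

variable {D : Type u} [CommRing D] [IsNoetherianRing D]

theorem krullDimLE_one_of_forall_le [IsDomain D] {J : Ideal D} (hJ : J ≠ ⊥)
    (h : ∀ P : Ideal D, P.IsPrime → P ≠ ⊥ → J ≤ P) : Ring.KrullDimLE 1 D := by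
  classical
  refine Ring.krullDimLE_one_iff_of_noZeroDivisors.mpr fun P hP hPp => ?_
  obtain ⟨M, hM, hPM⟩ := Ideal.exists_le_maximal P hPp.ne_top
  by_contra hne
  have hlt : P < M := lt_of_le_of_ne hPM fun e => hne (e ▸ hM)
  haveI : Finite J.minimalPrimes := Ideal.finite_minimalPrimes_of_isNoetherianRing D J |>.to_subtype
  let S : Finset (Ideal D) := (Ideal.finite_minimalPrimes_of_isNoetherianRing D J).toFinset
  have hsub : (M : Set D) ⊆ ⋃ Q ∈ (↑S : Set (Ideal D)), (Q : Set D) := by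
    intro x hx
    by_cases hx0 : x = 0
    · obtain ⟨Q, hQ, -⟩ := Ideal.exists_minimalPrimes_le (h P hPp hP)
      exact Set.mem_biUnion (Set.Finite.mem_toFinset _ |>.mpr hQ) (hx0 ▸ Q.zero_mem)
    haveI := hM.isPrime
    obtain ⟨Q, hQ, hQM⟩ := Ideal.exists_minimalPrimes_le
      ((Ideal.span_singleton_le_iff_mem M).mpr hx)
    have hQx : x ∈ Q := hQ.1.2 (Ideal.mem_span_singleton_self x)
    haveI := hQ.1.1
    have hQ0 : Q ≠ ⊥ := fun e => hx0 (by simpa [e] using hQx)
    refine Set.mem_biUnion (Set.Finite.mem_toFinset _ |>.mpr ⟨⟨hQ.1.1, h Q hQ.1.1 hQ0⟩, ?_⟩) hQx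
    rintro P' ⟨hP'p, hJP'⟩ hP'Q
    by_contra hQP'
    haveI := hP'p
    have hlt' : P' < Q := lt_of_le_not_ge hP'Q hQP'
    have hh : Q.height ≤ 1 := Ideal.height_le_one_of_isPrincipal_of_mem_minimalPrimes _ Q hQ
    haveI : Q.FiniteHeight := Ideal.finiteHeight_of_isNoetherianRing _
    have h1 : P'.height < 1 := (Ideal.height_strict_mono_of_isPrime hlt').trans_le hh
    rw [ENat.lt_one_iff_eq_zero, Ideal.height_eq_zero_iff] at h1
    rw [IsDomain.minimalPrimes_eq_singleton_bot, Set.mem_singleton_iff] at h1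
    exact hJ (eq_bot_iff.mpr (h1 ▸ hJP'))
  obtain ⟨Q, hQ, hMQ⟩ := (Ideal.subset_union_prime (f := fun Q => Q) ⊥ ⊥ (fun Q hQ _ _ =>
    ((Set.Finite.mem_toFinset _).mp hQ).1.1)).mp hsub
  have hQ' := (Set.Finite.mem_toFinset _).mp hQ
  exact hlt.not_ge (hMQ.trans (hQ'.2 ⟨hPp, h P hPp hP⟩ (hPM.trans hMQ)))

theorem isMaximal_eq_radical [IsDomain D] [Ring.KrullDimLE 1 D] {J : Ideal D} (hJ : J ≠ ⊥)
    [IsAdicComplete J D] (M : Ideal D) (hM : M.IsMaximal) : M = J.radical := by
  classical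
  haveI hzero : Ring.KrullDimLE 0 (D ⧸ J) := by
    refine Ring.krullDimLE_zero_iff.mpr fun P hP => ?_
    haveI := hP
    have hc : (P.comap (Ideal.Quotient.mk J)).IsMaximal := Ideal.IsPrime.isMaximal_of_ne_bot
      (Ideal.comap_isPrime _ _) fun e => hJ (eq_bot_iff.mpr (e ▸ fun x hx => by
        rw [Ideal.mem_comap, Ideal.Quotient.eq_zero_iff_mem.mpr hx]; exact P.zero_mem))
    rw [← Ideal.map_comap_of_surjective (Ideal.Quotient.mk J) Ideal.Quotient.mk_surjective P]
    exact Ideal.IsMaximal.map_of_surjective_of_ker_le Ideal.Quotient.mk_surjective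
      (by rw [Ideal.mk_ker]; intro x hx; rw [Ideal.mem_comap, Ideal.Quotient.eq_zero_iff_mem.mpr hx]; exact P.zero_mem)
  haveI : IsArtinianRing (D ⧸ J) := isArtinianRing_iff_krullDimLE_zero.mpr hzero
  haveI : HenselianRing D J := inferInstance
  have hJM : J ≤ M := (IsAdicComplete.le_jacobson_bot J).trans (sInf_le ⟨bot_le, hM⟩)
  refine le_antisymm (fun x hx => ?_) ((Ideal.IsRadical.radical_le_iff hM.isPrime.isRadical).mpr hJM)
  obtain ⟨n, y, hy⟩ := IsArtinian.exists_pow_succ_smul_dvd (Ideal.Quotient.mk J x) (1 : D ⧸ J)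
  simp only [smul_eq_mul, mul_one] at hy
  have hstep : ∀ k, (Ideal.Quotient.mk J x) ^ n = (Ideal.Quotient.mk J x) ^ (n + k) * y ^ k := by
    intro k
    induction k with
    | zero => simp
    | succ k ih =>
      refine ih.trans ?_
      rw [pow_add, ← hy, pow_succ, pow_succ y, Nat.add_succ, pow_succ, pow_add]
      ring
  obtain ⟨z, hz⟩ := Ideal.Quotient.mk_surjective ((Ideal.Quotient.mk J x) ^ n * y ^ n)
  have hidem : Ideal.Quotient.mk J (z * z - z) = 0 := by
    rw [map_sub, map_mul, hz]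
    have := hstep n
    linear_combination (-(y ^ n)) * this + (y ^ n * y ^ n) * (pow_add (Ideal.Quotient.mk J x) n n).symm
  let p : Polynomial D := Polynomial.X * Polynomial.X - Polynomial.X
  have hpm : p.Monic := by
    refine (Polynomial.monic_X.mul Polynomial.monic_X).sub_of_left ?_
    simp [Polynomial.degree_mul]; decide
  have hder : IsUnit (Ideal.Quotient.mk J (p.derivative.eval z)) := by
    refine IsUnit.of_mul_eq_one (Ideal.Quotient.mk J (2 * z - 1)) ?_
    rw [← map_mul]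
    have e : p.derivative.eval z * (2 * z - 1) = 4 * (z * z - z) + 1 := by simp [p]; ring
    rw [e, map_add, map_mul, hidem, mul_zero, zero_add, map_one]
  obtain ⟨a, ha, haz⟩ := HenselianRing.is_henselian p hpm z
    (by rw [← Ideal.Quotient.eq_zero_iff_mem]; simpa [p] using hidem) hder
  have ha' : a * (a - 1) = 0 := by
    have : p.eval a = 0 := ha
    simp [p] at this
    linear_combination this
  rcases mul_eq_zero.mp ha' with h | h
  · have hz0 : (Ideal.Quotient.mk J x) ^ n = 0 := by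
      have h2 : Ideal.Quotient.mk J z = 0 := by
        rw [← Ideal.Quotient.eq_zero_iff_mem, map_sub, h, map_zero, zero_sub, neg_eq_zero] at haz
        exact haz
      rw [hstep n, pow_add, mul_assoc, ← hz, h2, mul_zero]
    exact ⟨n, Ideal.Quotient.eq_zero_iff_mem.mp (by rw [map_pow]; exact hz0)⟩
  · exfalso
    have h2 : Ideal.Quotient.mk J z = 1 := by
      rw [← Ideal.Quotient.eq_zero_iff_mem, map_sub, sub_eq_zero.mp h, map_one, sub_eq_zero] at haz
      exact haz.symm
    rcases Nat.eq_zero_or_pos n with rfl | hn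
    · rw [pow_zero, pow_succ, pow_zero, one_mul] at hy
      obtain ⟨y', rfl⟩ := Ideal.Quotient.mk_surjective y
      rw [← map_mul, ← map_one (Ideal.Quotient.mk J), Ideal.Quotient.eq] at hy
      exact hM.ne_top ((Ideal.eq_top_iff_one M).mpr
        (by simpa using sub_mem (Ideal.mul_mem_right y' _ hx) (hJM hy)))
    · rw [hz] at h2
      obtain ⟨w, hw⟩ := Ideal.Quotient.mk_surjective (y ^ n)
      rw [← hw, ← map_pow, ← map_mul, ← map_one (Ideal.Quotient.mk J), Ideal.Quotient.eq] at h2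
      exact hM.ne_top ((Ideal.eq_top_iff_one M).mpr
        (by simpa using sub_mem (Ideal.mul_mem_right w _ (M.pow_mem_of_mem hx n hn)) (hJM h2)))

omit [IsNoetherianRing D] in
theorem isAdicComplete_of_le_of_pow_le {J K : Ideal D} [IsAdicComplete J D] (hJK : J ≤ K) {N : ℕ}
    (hKJ : K ^ N ≤ J) : IsAdicComplete K D := by
  rcases Nat.eq_zero_or_pos N with rfl | hN
  · have hJ : J = ⊤ := top_le_iff.mp (by simpa using hKJ)
    have : Subsingleton D := ⟨fun a b => sub_eq_zero.mp <| IsHausdorff.haus (inferInstance : IsHausdorff J D) _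
      fun n => by rw [SModEq.zero]; simp [hJ, Ideal.top_pow]⟩
    infer_instance
  have hpow : ∀ n, (K ^ (N * n) • ⊤ : Submodule D D) ≤ J ^ n • ⊤ := fun n => by
    rw [pow_mul]; exact Submodule.smul_mono (Ideal.pow_right_mono hKJ n) le_rfl
  have hle : ∀ n, (J ^ n • ⊤ : Submodule D D) ≤ K ^ n • ⊤ := fun n =>
    Submodule.smul_mono (Ideal.pow_right_mono hJK n) le_rfl
  haveI : IsHausdorff K D := ⟨fun x hx => IsHausdorff.haus (inferInstance : IsHausdorff J D) x
    fun n => SModEq.zero.mpr (hpow n (SModEq.zero.mp (hx _)))⟩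
  refine { prec' := fun f hf => ?_ }
  obtain ⟨L, hL⟩ := IsPrecomplete.prec (inferInstance : IsPrecomplete J D) (f := fun n => f (N * n))
    fun {m n} hmn => SModEq.sub_mem.mpr (hpow m (SModEq.sub_mem.mp (hf (Nat.mul_le_mul_left N hmn))))
  exact ⟨L, fun n => (hf (Nat.le_mul_of_pos_left n hN)).trans
    (SModEq.sub_mem.mpr (hle n (SModEq.sub_mem.mp (hL n))))⟩

end Domain

section Basic

variable {A : Type u} [CommRing A] [IsNoetherianRing A] {I : Ideal A} [IsAdicComplete I A]

theorem isAdicComplete_quotient (q : Ideal A) :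
    IsAdicComplete (I.map (Ideal.Quotient.mk q)) (A ⧸ q) :=
  (IsAdicComplete.map_algebraMap_iff (S := A ⧸ q) I (A ⧸ q)).mpr
    (Groth.Agent.S9405.isAdicComplete_of_finite I (A ⧸ q))

theorem dim_eq_one_of_rigClosed {q : PrimeSpectrum A} (hq : RigClosed I q) :
    ringKrullDim (A ⧸ q.asIdeal) = 1 ∧ ¬ I ≤ q.asIdeal := by
  haveI := isAdicComplete_quotient (I := I) q.asIdeal
  let J := I.map (Ideal.Quotient.mk q.asIdeal)
  have hJ : J ≠ ⊥ := fun e => hq.1 (by
    rw [Ideal.map_eq_bot_iff_le_ker, Ideal.mk_ker] at e; exact e)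
  have hall : ∀ P : Ideal (A ⧸ q.asIdeal), P.IsPrime → P ≠ ⊥ → J ≤ P := fun P hP hP0 => by
    by_contra hn
    haveI := hP
    have hle : q.asIdeal ≤ P.comap (Ideal.Quotient.mk q.asIdeal) := fun x hx => by
      rw [Ideal.mem_comap, Ideal.Quotient.eq_zero_iff_mem.mpr hx]; exact P.zero_mem
    have he := hq.2 ⟨P.comap (Ideal.Quotient.mk q.asIdeal), Ideal.comap_isPrime _ _⟩ hle
      fun h => hn (Ideal.map_le_iff_le_comap.mpr h)
    apply hP0
    rw [← Ideal.map_comap_of_surjective (Ideal.Quotient.mk q.asIdeal) Ideal.Quotient.mk_surjective P,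
      show P.comap (Ideal.Quotient.mk q.asIdeal) = q.asIdeal from congrArg PrimeSpectrum.asIdeal he,
      Ideal.map_quotient_self]
  haveI := krullDimLE_one_of_forall_le hJ hall
  refine ⟨le_antisymm (Ring.krullDimLE_iff.mp inferInstance) ?_, hq.1⟩
  by_contra h
  haveI : Ring.KrullDimLE 0 (A ⧸ q.asIdeal) := Ring.krullDimLE_iff.mpr (by
    have h' := not_le.mp h
    revert h'
    generalize ringKrullDim (A ⧸ q.asIdeal) = x
    intro h'
    cases x with
    | bot => exact bot_le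
    | coe a =>
      exact WithBot.coe_le_coe.mpr (ENat.lt_one_iff_eq_zero.mp (WithBot.coe_lt_coe.mp h')).le)
  have hf : IsField (A ⧸ q.asIdeal) := Ring.KrullDimLE.isField_of_isDomain
  have hqmax : q.asIdeal.IsMaximal := Ideal.Quotient.maximal_of_isField _ hf
  exact hq.1 ((IsAdicComplete.le_jacobson_bot I).trans (sInf_le ⟨bot_le, hqmax⟩))

theorem props_of_dim_eq_one {q : PrimeSpectrum A}
    (hq : ringKrullDim (A ⧸ q.asIdeal) = 1 ∧ ¬ I ≤ q.asIdeal) :
    ringKrullDim (A ⧸ q.asIdeal) = 1 ∧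
      (∀ m : Ideal (A ⧸ q.asIdeal), m.IsMaximal → m = (I.map (Ideal.Quotient.mk q.asIdeal)).radical) ∧
      IsAdicComplete (I.map (Ideal.Quotient.mk q.asIdeal)).radical (A ⧸ q.asIdeal) := by
  haveI := isAdicComplete_quotient (I := I) q.asIdeal
  haveI : Ring.KrullDimLE 1 (A ⧸ q.asIdeal) := Ring.krullDimLE_iff.mpr (le_of_eq hq.1)
  have hJ : I.map (Ideal.Quotient.mk q.asIdeal) ≠ ⊥ := fun e => hq.2 (by
    rw [Ideal.map_eq_bot_iff_le_ker, Ideal.mk_ker] at e; exact e)
  obtain ⟨N, hN⟩ := Ideal.exists_radical_pow_le_of_fg (I.map (Ideal.Quotient.mk q.asIdeal))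
    (IsNoetherian.noetherian _)
  exact ⟨hq.1, isMaximal_eq_radical hJ, isAdicComplete_of_le_of_pow_le Ideal.le_radical hN⟩

omit [IsAdicComplete I A] in
theorem rigClosed_of_props {q : PrimeSpectrum A} (h1 : ringKrullDim (A ⧸ q.asIdeal) = 1)
    (hm : ∀ m : Ideal (A ⧸ q.asIdeal), m.IsMaximal → m = (I.map (Ideal.Quotient.mk q.asIdeal)).radical) :
    RigClosed I q := by
  haveI : Ring.KrullDimLE 1 (A ⧸ q.asIdeal) := Ring.krullDimLE_iff.mpr (le_of_eq h1)
  refine ⟨fun hIq => ?_, fun q' hle hq' => by_contra fun hne => hq' ?_⟩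
  · have e : (I.map (Ideal.Quotient.mk q.asIdeal)).radical = ⊥ := by
      rw [Ideal.map_eq_bot_iff_le_ker _ |>.mpr (by rw [Ideal.mk_ker]; exact hIq)]
      exact (Ideal.isPrime_bot).isRadical.radical
    obtain ⟨M, hM⟩ := Ideal.exists_maximal (A ⧸ q.asIdeal)
    have hb : (⊥ : Ideal (A ⧸ q.asIdeal)).IsMaximal := e ▸ hm M hM ▸ hM
    haveI := hb
    have : ringKrullDim (A ⧸ q.asIdeal) = 0 :=
      ringKrullDim_eq_zero_of_isField (Ring.isField_iff_maximal_bot.mpr hb)
    rw [this] at h1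
    exact zero_ne_one h1
  · let P := q'.asIdeal.map (Ideal.Quotient.mk q.asIdeal)
    haveI : P.IsPrime := Ideal.map_isPrime_of_surjective Ideal.Quotient.mk_surjective
      (by rw [Ideal.mk_ker]; exact hle)
    have hP0 : P ≠ ⊥ := fun e => hne (PrimeSpectrum.ext (le_antisymm
      (by rw [Ideal.map_eq_bot_iff_le_ker, Ideal.mk_ker] at e; exact e) hle))
    have hPmax : P.IsMaximal := Ideal.IsPrime.isMaximal_of_ne_bot inferInstance hP0
    intro x hx
    have : Ideal.Quotient.mk q.asIdeal x ∈ P :=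
      (hm P hPmax).ge (Ideal.le_radical (Ideal.mem_map_of_mem _ hx))
    rw [← Ideal.mem_comap, Ideal.comap_map_of_surjective _ Ideal.Quotient.mk_surjective,
      ← RingHom.ker_eq_comap_bot, Ideal.mk_ker, sup_eq_left.mpr hle] at this
    exact this

theorem tfae (q : PrimeSpectrum A) : List.TFAE [RigClosed I q,
    ringKrullDim (A ⧸ q.asIdeal) = 1 ∧ ¬ I ≤ q.asIdeal,
    ringKrullDim (A ⧸ q.asIdeal) = 1 ∧
      (∀ m : Ideal (A ⧸ q.asIdeal), m.IsMaximal → m = (I.map (Ideal.Quotient.mk q.asIdeal)).radical) ∧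
      IsAdicComplete (I.map (Ideal.Quotient.mk q.asIdeal)).radical (A ⧸ q.asIdeal)] := by
  tfae_have 1 → 2 := dim_eq_one_of_rigClosed
  tfae_have 2 → 3 := props_of_dim_eq_one
  tfae_have 3 → 1 := fun h => rigClosed_of_props h.1 h.2.1
  tfae_finish

theorem rigClosed_of_dim_eq_one {q : PrimeSpectrum A} (h : ringKrullDim (A ⧸ q.asIdeal) = 1)
    (hI : ¬ I ≤ q.asIdeal) : RigClosed I q :=
  let h' := props_of_dim_eq_one ⟨h, hI⟩
  rigClosed_of_props h'.1 h'.2.1

theorem RigClosed.isMaximal_of_lt {q : PrimeSpectrum A} (hq : RigClosed I q) {P : Ideal A} [P.IsPrime]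
    (hlt : q.asIdeal < P) : P.IsMaximal := by
  haveI : Ring.KrullDimLE 1 (A ⧸ q.asIdeal) := Ring.krullDimLE_iff.mpr (le_of_eq (dim_eq_one_of_rigClosed hq).1)
  haveI : (P.map (Ideal.Quotient.mk q.asIdeal)).IsPrime := Ideal.map_isPrime_of_surjective
    Ideal.Quotient.mk_surjective (by rw [Ideal.mk_ker]; exact hlt.le)
  have h0 : P.map (Ideal.Quotient.mk q.asIdeal) ≠ ⊥ := fun e => hlt.not_ge (by
    rw [Ideal.map_eq_bot_iff_le_ker, Ideal.mk_ker] at e; exact e)
  haveI := Ideal.IsPrime.isMaximal_of_ne_bot (I := P.map (Ideal.Quotient.mk q.asIdeal)) inferInstance h0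
  have e : (P.map (Ideal.Quotient.mk q.asIdeal)).comap (Ideal.Quotient.mk q.asIdeal) = P := by
    rw [Ideal.comap_map_of_surjective _ Ideal.Quotient.mk_surjective, ← RingHom.ker_eq_comap_bot,
      Ideal.mk_ker, sup_eq_left.mpr hlt.le]
  exact e ▸ Ideal.comap_isMaximal_of_surjective _ Ideal.Quotient.mk_surjective

theorem finite_of_finite_quotient (B : Type u) [CommRing B] [Algebra A B]
    [IsAdicComplete (I.map (algebraMap A B)) B] [Module.Finite A (B ⧸ I.map (algebraMap A B))] :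
    Module.Finite A B := by
  obtain ⟨r, y, hy⟩ := Module.Finite.exists_fin (R := A) (M := B ⧸ I.map (algebraMap A B))
  choose x hx using fun i => Ideal.Quotient.mk_surjective (y i)
  let F := Fintype.linearCombination A x
  haveI : IsAdicComplete I (Fin r → A) := Groth.Agent.S9405.isAdicComplete_of_finite I (Fin r → A)
  haveI : IsHausdorff I B := IsHausdorff.map_algebraMap_iff.mp
    (inferInstance : IsHausdorff (I.map (algebraMap A B)) B)
  refine Module.Finite.of_surjective F (surjective_of_mkQ_comp_surjective (I := I) (f := F) fun z => ?_)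
  obtain ⟨w, rfl⟩ := Submodule.Quotient.mk_surjective _ z
  obtain ⟨c, hc⟩ := (Submodule.mem_span_range_iff_exists_fun A).mp
    (hy ▸ Submodule.mem_top : Ideal.Quotient.mk (I.map (algebraMap A B)) w ∈ _)
  refine ⟨c, (Submodule.Quotient.eq _).mpr ?_⟩
  rw [Ideal.smul_top_eq_map, Submodule.restrictScalars_mem, ← Ideal.Quotient.eq, ← hc]
  simp only [F, Fintype.linearCombination_apply, map_sum, ← hx]
  rfl

end Basic

section Relative

variable {A : Type u} [CommRing A] [IsNoetherianRing A] {I : Ideal A} [IsAdicComplete I A]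
  {B : Type u} [CommRing B] [Algebra A B] [IsNoetherianRing B] [IsAdicComplete (I.map (algebraMap A B)) B]

omit [IsNoetherianRing A] [IsAdicComplete I A] [IsNoetherianRing B] in
theorem map_le_of_isMaximal {m : Ideal B} (hm : m.IsMaximal) : I.map (algebraMap A B) ≤ m :=
  (IsAdicComplete.le_jacobson_bot _).trans (sInf_le ⟨bot_le, hm⟩)

variable (hft : Algebra.FiniteType A (B ⧸ I.map (algebraMap A B))) {q : PrimeSpectrum B}
  (hq : RigClosed (I.map (algebraMap A B)) q)

include hft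

omit [IsNoetherianRing A] [IsAdicComplete I A] [IsNoetherianRing B] [IsAdicComplete (I.map (algebraMap A B)) B] in
theorem finiteType_quotient {J : Ideal B} (hJ : I.map (algebraMap A B) ≤ J) : Algebra.FiniteType A (B ⧸ J) :=
  haveI := hft
  Algebra.FiniteType.of_surjective (Ideal.Quotient.factorₐ A hJ) (Ideal.Quotient.factor_surjective hJ)

include hq

theorem finite_quotient_of_residue (h : ∀ m : Ideal B, m.IsMaximal → q.asIdeal ≤ m → Module.Finite A (B ⧸ m)) :
    Module.Finite A (B ⧸ q.asIdeal) := by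
  haveI := hft
  obtain ⟨-, hm, -⟩ := props_of_dim_eq_one (dim_eq_one_of_rigClosed hq)
  let D := B ⧸ q.asIdeal
  have eJ : I.map (algebraMap A D) = (I.map (algebraMap A B)).map (Ideal.Quotient.mk q.asIdeal) := by
    rw [Ideal.map_map]; rfl
  haveI : IsAdicComplete (I.map (algebraMap A D)) D := by
    rw [eJ]; exact isAdicComplete_quotient q.asIdeal
  haveI : Algebra.FiniteType A (D ⧸ I.map (algebraMap A D)) := by
    have hle : I.map (algebraMap A B) ≤ (I.map (algebraMap A D)).comap (Ideal.Quotient.mkₐ A q.asIdeal) := by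
      rw [eJ]; exact Ideal.le_comap_map
    exact Algebra.FiniteType.of_surjective (Ideal.quotientMapₐ _ (Ideal.Quotient.mkₐ A q.asIdeal) hle)
      (Ideal.quotientMap_surjective (H := hle) Ideal.Quotient.mk_surjective)
  obtain ⟨M, hM⟩ := Ideal.exists_maximal D
  haveI := hM
  haveI hfM : Module.Finite A (B ⧸ M.comap (Ideal.Quotient.mk q.asIdeal)) :=
    h _ (Ideal.comap_isMaximal_of_surjective _ Ideal.Quotient.mk_surjective) fun x hx => by
      rw [Ideal.mem_comap, Ideal.Quotient.eq_zero_iff_mem.mpr hx]; exact M.zero_mem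
  haveI : Algebra.IsIntegral A (D ⧸ I.map (algebraMap A D)) := ⟨fun y => by
    obtain ⟨d, rfl⟩ := Ideal.Quotient.mk_surjective y
    obtain ⟨b, rfl⟩ := Ideal.Quotient.mk_surjective d
    obtain ⟨p, hp, hp0⟩ := Algebra.IsIntegral.isIntegral (R := A)
      (Ideal.Quotient.mk (M.comap (Ideal.Quotient.mk q.asIdeal)) b)
    rw [← Polynomial.aeval_def, ← Ideal.Quotient.mkₐ_eq_mk A, Polynomial.aeval_algHom_apply,
      Ideal.Quotient.mkₐ_eq_mk, Ideal.Quotient.eq_zero_iff_mem, Ideal.mem_comap, hm M hM, ← eJ] at hp0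
    obtain ⟨N, hN⟩ := hp0
    refine ⟨p ^ N, hp.pow N, ?_⟩
    rw [← Polynomial.aeval_def, map_pow, ← Ideal.Quotient.mkₐ_eq_mk A (I.map (algebraMap A D)),
      Polynomial.aeval_algHom_apply, ← Ideal.Quotient.mkₐ_eq_mk A q.asIdeal, Polynomial.aeval_algHom_apply,
      ← map_pow]
    exact Ideal.Quotient.eq_zero_iff_mem.mpr hN⟩
  haveI : Module.Finite A (D ⧸ I.map (algebraMap A D)) := Algebra.IsIntegral.finite
  exact finite_of_finite_quotient (I := I) D

omit hft in
theorem rigClosed_comap_of_finite [Module.Finite A (B ⧸ q.asIdeal)] :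
    RigClosed I (PrimeSpectrum.comap (algebraMap A B) q) := by
  let p := q.asIdeal.comap (algebraMap A B)
  letI : Algebra (A ⧸ p) (B ⧸ q.asIdeal) := (Ideal.quotientMap q.asIdeal (algebraMap A B) le_rfl).toAlgebra
  haveI : IsScalarTower A (A ⧸ p) (B ⧸ q.asIdeal) := IsScalarTower.of_algebraMap_eq fun x => rfl
  haveI : Module.Finite (A ⧸ p) (B ⧸ q.asIdeal) := Module.Finite.of_restrictScalars_finite A _ _
  have hinj : Function.Injective (algebraMap (A ⧸ p) (B ⧸ q.asIdeal)) :=
    Ideal.quotientMap_injective' (H := le_rfl) le_rfl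
  refine rigClosed_of_dim_eq_one ?_ fun h => hq.1 (Ideal.map_le_iff_le_comap.mpr h)
  exact ((Groth.L22.AffineDim.ringKrullDim_eq_of_isIntegral hinj).symm.trans (dim_eq_one_of_rigClosed hq).1)

theorem finite_residue_of_rigClosed_comap (hp : RigClosed I (PrimeSpectrum.comap (algebraMap A B) q))
    (m : Ideal B) (hm : m.IsMaximal) (hqm : q.asIdeal ≤ m) : Module.Finite A (B ⧸ m) := by
  haveI := hm
  haveI := finiteType_quotient hft (map_le_of_isMaximal (I := I) hm)
  let P := m.comap (algebraMap A B)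
  have hIP : I ≤ P := Ideal.map_le_iff_le_comap.mp (map_le_of_isMaximal hm)
  haveI : P.IsMaximal := hp.isMaximal_of_lt (P := P)
    (lt_of_le_of_ne (Ideal.comap_mono hqm) fun e => hp.1 (show I ≤ _ from e ▸ hIP))
  letI : Algebra (A ⧸ P) (B ⧸ m) := (Ideal.quotientMap m (algebraMap A B) le_rfl).toAlgebra
  haveI : IsScalarTower A (A ⧸ P) (B ⧸ m) := IsScalarTower.of_algebraMap_eq fun x => rfl
  letI := Ideal.Quotient.field P
  letI := Ideal.Quotient.field m
  haveI : Algebra.FiniteType (A ⧸ P) (B ⧸ m) := Algebra.FiniteType.of_restrictScalars_finiteType A _ _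
  haveI : Module.Finite (A ⧸ P) (B ⧸ m) := finite_of_finite_type_of_isJacobsonRing (A ⧸ P) (B ⧸ m)
  exact Module.Finite.trans (A ⧸ P) (B ⧸ m)

theorem tfae_comap : List.TFAE [∀ m : Ideal B, m.IsMaximal → q.asIdeal ≤ m → Module.Finite A (B ⧸ m),
    RigClosed I (PrimeSpectrum.comap (algebraMap A B) q), Module.Finite A (B ⧸ q.asIdeal)] := by
  tfae_have 1 → 3 := finite_quotient_of_residue hft hq
  tfae_have 3 → 2 := fun h => haveI := h; rigClosed_comap_of_finite hq
  tfae_have 2 → 1 := finite_residue_of_rigClosed_comap hft hq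
  tfae_finish

omit hq in
theorem finite_residue_of_isJacobsonRing [IsJacobsonRing (A ⧸ I)] (m : Ideal B) (hm : m.IsMaximal) :
    Module.Finite A (B ⧸ m) := by
  haveI := hm
  have hle := map_le_of_isMaximal (I := I) hm
  haveI := finiteType_quotient hft hle
  letI : Algebra (A ⧸ I) (B ⧸ m) :=
    (Ideal.quotientMap m (algebraMap A B) (Ideal.map_le_iff_le_comap.mp hle)).toAlgebra
  haveI : IsScalarTower A (A ⧸ I) (B ⧸ m) := IsScalarTower.of_algebraMap_eq fun x => rfl
  letI := Ideal.Quotient.field m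
  haveI : Algebra.FiniteType (A ⧸ I) (B ⧸ m) := Algebra.FiniteType.of_restrictScalars_finiteType A _ _
  haveI : Module.Finite (A ⧸ I) (B ⧸ m) := finite_of_finite_type_of_isJacobsonRing (A ⧸ I) (B ⧸ m)
  exact Module.Finite.trans (A ⧸ I) (B ⧸ m)

omit hq in
theorem exists_rigClosed_over_iff [Module.Flat A B] {p : PrimeSpectrum A} (hp : RigClosed I p) :
    (∃ Q : PrimeSpectrum B, I.map (algebraMap A B) ≤ Q.asIdeal ∧
        p.asIdeal ≤ (PrimeSpectrum.comap (algebraMap A B) Q).asIdeal ∧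
        (PrimeSpectrum.comap (algebraMap A B) Q).asIdeal.IsMaximal) ↔
      ∃ q : PrimeSpectrum B, RigClosed (I.map (algebraMap A B)) q ∧
        PrimeSpectrum.comap (algebraMap A B) q = p := by
  constructor
  · rintro ⟨Q, hIQ, hpQ, -⟩
    obtain ⟨a, haI, hap⟩ := SetLike.not_le_iff_exists.mp hp.1
    let pB := p.asIdeal.map (algebraMap A B)
    obtain ⟨q₀, hq₀, -⟩ := Ideal.exists_minimalPrimes_le (Ideal.map_le_iff_le_comap.mpr hpQ : pB ≤ Q.asIdeal)
    have ha0 : algebraMap A B a ∉ q₀ := by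
      intro hmem
      obtain ⟨q', hq', hq'e⟩ : ∃ q' ∈ minimalPrimes (B ⧸ pB), q'.comap (Ideal.Quotient.mk pB) = q₀ := by
        rw [Ideal.minimalPrimes_eq_comap] at hq₀
        exact hq₀
      haveI : Module.Flat (A ⧸ p.asIdeal) (B ⧸ pB) := Module.Flat.of_linearEquiv
        (Algebra.TensorProduct.quotIdealMapEquivQuotTensor B p.asIdeal).toLinearEquiv
      have hreg : Ideal.Quotient.mk pB (algebraMap A B a) ∈ nonZeroDivisors (B ⧸ pB) := by
        refine mem_nonZeroDivisors_iff_right.mpr fun z hz => ?_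
        apply Module.Flat.isSMulRegular_of_nonZeroDivisors (M := B ⧸ pB)
          (mem_nonZeroDivisors_of_ne_zero (fun e => hap (Ideal.Quotient.eq_zero_iff_mem.mp e) :
            Ideal.Quotient.mk p.asIdeal a ≠ 0))
        show Ideal.Quotient.mk p.asIdeal a • z = Ideal.Quotient.mk p.asIdeal a • (0 : B ⧸ pB)
        rw [smul_zero, Algebra.smul_def, mul_comm]
        exact hz
      exact Set.disjoint_left.mp (Ideal.disjoint_nonZeroDivisors_of_mem_minimalPrimes hq')
        (show Ideal.Quotient.mk pB (algebraMap A B a) ∈ q' from hq'e.ge hmem) hreg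
    let S : Set (Ideal B) := {P | P.IsPrime ∧ q₀ ≤ P ∧ ¬ I.map (algebraMap A B) ≤ P}
    obtain ⟨P, ⟨hPp, hqP, hPI⟩, hmax⟩ := (wellFounded_gt (α := Ideal B)).has_min S
      ⟨q₀, hq₀.1.1, le_rfl, fun h => ha0 (h (Ideal.mem_map_of_mem _ haI))⟩
    refine ⟨⟨P, hPp⟩, ⟨hPI, fun q' hle hq' => PrimeSpectrum.ext ?_⟩, hp.2 _ ?_ ?_⟩
    · by_contra hne
      exact hmax q'.asIdeal ⟨q'.2, hqP.trans hle, hq'⟩ (lt_of_le_of_ne hle (Ne.symm hne))
    · exact (Ideal.map_le_iff_le_comap.mp hq₀.1.2).trans (Ideal.comap_mono hqP)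
    · exact fun h => hPI (Ideal.map_le_iff_le_comap.mpr h)
  · rintro ⟨q, hq, rfl⟩
    obtain ⟨m, hm, hqm⟩ := Ideal.exists_le_maximal q.asIdeal q.2.ne_top
    haveI := hm.isPrime
    refine ⟨⟨m, hm.isPrime⟩, map_le_of_isMaximal hm, Ideal.comap_mono hqm, ?_⟩
    exact hp.isMaximal_of_lt (P := m.comap (algebraMap A B))
      (lt_of_le_of_ne (Ideal.comap_mono hqm) fun e => hp.1
        (show I ≤ _ from e ▸ Ideal.map_le_iff_le_comap.mp (map_le_of_isMaximal hm)))

end Relative

end Groth.L05.Rig
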