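import Groth.Agent.L05.Rig.Closed
import Groth.Agent.L05.Bosch.Complete
import Mathlib.RingTheory.Localization.AtPrime.Basic

/-!
# Completion at rig-closed points of the completion of an algebra of finite type
-/

set_option autoImplicit false

universe u

namespace Groth.L05.Rig

variable {A : Type u} [CommRing A] [IsNoetherianRing A] {I : Ideal A} [IsAdicComplete I A]
  {P : Type u} [CommRing P] [Algebra A P] [Algebra.FiniteType A P]

variable (I P) in
/-- The completion of an algebra of finite type along an ideal of the base. -/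
abbrev FTCompl : Type u := AdicCompletion (I.map (algebraMap A P)) P

theorem isNoetherianRing_completion : IsNoetherianRing (FTCompl I P) :=
  haveI : IsNoetherianRing P := Algebra.FiniteType.isNoetherianRing A P
  L01.AdicNoeth.isNoetherianRing_adicCompletion _ (Ideal.FG.map (IsNoetherian.noetherian I) _)

theorem isAdicComplete_completion : IsAdicComplete (I.map (algebraMap A (FTCompl I P))) (FTCompl I P) :=
  (IsAdicComplete.map_algebraMap_iff (S := (FTCompl I P)) I _).mpr
    (Groth.L05.Bosch.completion_isAdicComplete I _ (IsNoetherian.noetherian I))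

theorem exists_approx_completion (x : (FTCompl I P)) : ∃ a : P, x - algebraMap P (FTCompl I P) a ∈ I.map (algebraMap A (FTCompl I P)) := by
  obtain ⟨s, hs⟩ := Groth.L05.Bosch.completion_dense (C := P) (IsNoetherian.noetherian I) x 1
  rw [pow_one, Ideal.smul_top_eq_map, Submodule.restrictScalars_mem] at hs
  exact ⟨s, hs⟩

theorem finiteType_completion_quotient : Algebra.FiniteType A ((FTCompl I P) ⧸ I.map (algebraMap A (FTCompl I P))) := by
  refine Algebra.FiniteType.of_surjective
    ((Ideal.Quotient.mkₐ A _).comp (IsScalarTower.toAlgHom A P (FTCompl I P))) fun y => ?_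
  obtain ⟨x, rfl⟩ := Ideal.Quotient.mk_surjective y
  obtain ⟨a, ha⟩ := exists_approx_completion x
  exact ⟨a, (Ideal.Quotient.eq.mpr ha).symm⟩

variable (q : Ideal (FTCompl I P)) [q.IsPrime]

theorem finite_quotient_pow [Module.Finite A ((FTCompl I P) ⧸ q)] (m : ℕ) :
    Module.Finite A (P ⧸ (q.comap (algebraMap P (FTCompl I P))) ^ m) := by
  let q0 := q.comap (algebraMap P (FTCompl I P))
  let ι : (P ⧸ q0) →ₐ[A] (FTCompl I P) ⧸ q := Ideal.quotientMapₐ q (IsScalarTower.toAlgHom A P (FTCompl I P)) le_rfl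
  haveI : Module.Finite A (P ⧸ q0) :=
    Module.Finite.of_injective ι.toLinearMap (Ideal.quotientMap_injective' (H := le_rfl) le_rfl)
  haveI : Algebra.FiniteType A (P ⧸ q0 ^ m) :=
    Algebra.FiniteType.of_surjective (Ideal.Quotient.mkₐ A _) Ideal.Quotient.mk_surjective
  haveI : Algebra.IsIntegral A (P ⧸ q0 ^ m) := ⟨fun y => by
    obtain ⟨x, rfl⟩ := Ideal.Quotient.mk_surjective y
    obtain ⟨g, hg, hg0⟩ := Algebra.IsIntegral.isIntegral (R := A) (Ideal.Quotient.mk q0 x)
    rw [← Polynomial.aeval_def, ← Ideal.Quotient.mkₐ_eq_mk A, Polynomial.aeval_algHom_apply,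
      Ideal.Quotient.mkₐ_eq_mk, Ideal.Quotient.eq_zero_iff_mem] at hg0
    refine ⟨g ^ m, hg.pow m, ?_⟩
    rw [← Polynomial.aeval_def, ← Ideal.Quotient.mkₐ_eq_mk A, Polynomial.aeval_algHom_apply,
      Ideal.Quotient.mkₐ_eq_mk, Ideal.Quotient.eq_zero_iff_mem, map_pow]
    exact Ideal.pow_mem_pow hg0 m⟩
  exact Algebra.IsIntegral.finite

theorem quotientMap_pow_bijective [Module.Finite A ((FTCompl I P) ⧸ q)] (m : ℕ) :
    (∀ c : (FTCompl I P), ∃ a : P, c - algebraMap P (FTCompl I P) a ∈ ((q.comap (algebraMap P (FTCompl I P))) ^ m).map (algebraMap P (FTCompl I P))) ∧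
      ∀ a : P, algebraMap P (FTCompl I P) a ∈ ((q.comap (algebraMap P (FTCompl I P))) ^ m).map (algebraMap P (FTCompl I P)) →
        a ∈ (q.comap (algebraMap P (FTCompl I P))) ^ m := by
  haveI := isNoetherianRing_completion (A := A) (I := I) (P := P)
  haveI := isAdicComplete_completion (A := A) (I := I) (P := P)
  haveI := finite_quotient_pow q m
  let K := (q.comap (algebraMap P (FTCompl I P))) ^ m
  let Q := P ⧸ K
  haveI : IsAdicComplete (I.map (algebraMap A Q)) Q :=
    (IsAdicComplete.map_algebraMap_iff (S := Q) I Q).mpr (Groth.Agent.S9405.isAdicComplete_of_finite I Q)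
  constructor
  · let K' := K.map (algebraMap P (FTCompl I P))
    have eI : (I.map (algebraMap A (FTCompl I P))).map (Ideal.Quotient.mk K') = I.map (algebraMap A ((FTCompl I P) ⧸ K')) := by
      rw [Ideal.map_map]; rfl
    haveI : IsHausdorff I ((FTCompl I P) ⧸ K') := IsHausdorff.map_algebraMap_iff.mp (by
      rw [← eI]
      exact (isAdicComplete_quotient (I := I.map (algebraMap A (FTCompl I P))) K').toIsHausdorff)
    haveI : IsAdicComplete I Q := Groth.Agent.S9405.isAdicComplete_of_finite I Q
    let F : Q →ₐ[A] (FTCompl I P) ⧸ K' := Ideal.quotientMapₐ K' (IsScalarTower.toAlgHom A P (FTCompl I P)) Ideal.le_comap_map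
    have hF : Function.Surjective F.toLinearMap := by
      refine surjective_of_mkQ_comp_surjective (I := I) (f := F.toLinearMap) fun z => ?_
      obtain ⟨y, rfl⟩ := Submodule.Quotient.mk_surjective _ z
      obtain ⟨x, rfl⟩ := Ideal.Quotient.mk_surjective y
      obtain ⟨a, ha⟩ := exists_approx_completion x
      refine ⟨Ideal.Quotient.mk K a, (Submodule.Quotient.eq _).mpr ?_⟩
      rw [Ideal.smul_top_eq_map, Submodule.restrictScalars_mem, ← eI, ← neg_sub]
      exact neg_mem ((map_sub (Ideal.Quotient.mk K') x _).symm ▸ Ideal.mem_map_of_mem _ ha)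
    intro c
    obtain ⟨y, hy⟩ := hF (Ideal.Quotient.mk K' c)
    obtain ⟨a, rfl⟩ := Ideal.Quotient.mk_surjective y
    exact ⟨a, Ideal.Quotient.eq.mp hy.symm⟩
  · obtain ⟨χ, hχ, -⟩ := Chart.existsUnique_completion_lift (R := A)
      (Ideal.FG.map (IsNoetherian.noetherian I) (algebraMap A P)) (I.map (algebraMap A Q))
      (Ideal.Quotient.mkₐ A K) (by
        rw [Ideal.map_le_iff_le_comap, Ideal.map_le_iff_le_comap]
        intro x hx
        exact Ideal.mem_map_of_mem (algebraMap A Q) hx)
    intro a ha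
    have h : K.map (algebraMap P (FTCompl I P)) ≤ RingHom.ker χ := Ideal.map_le_iff_le_comap.mpr fun b hb => by
      rw [Ideal.mem_comap, RingHom.mem_ker, hχ]
      exact Ideal.Quotient.eq_zero_iff_mem.mpr hb
    have h' := h ha
    rw [RingHom.mem_ker, hχ] at h'
    exact Ideal.Quotient.eq_zero_iff_mem.mp h'

theorem eq_map_comap_completion [Module.Finite A ((FTCompl I P) ⧸ q)] :
    q = (q.comap (algebraMap P (FTCompl I P))).map (algebraMap P (FTCompl I P)) := by
  obtain ⟨h1, h2⟩ := quotientMap_pow_bijective q 1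
  simp only [pow_one] at h1 h2
  refine le_antisymm (fun c hc => ?_) Ideal.map_comap_le
  obtain ⟨a, ha⟩ := h1 c
  have : a ∈ q.comap (algebraMap P (FTCompl I P)) := by
    rw [Ideal.mem_comap]
    simpa using sub_mem hc (Ideal.map_comap_le ha)
  simpa using add_mem ha (Ideal.mem_map_of_mem (algebraMap P (FTCompl I P)) this)

theorem localRingHom_mod_pow_bijective [Module.Finite A ((FTCompl I P) ⧸ q)] (m : ℕ) (hm : 1 ≤ m) :
    (∀ x : Localization.AtPrime (q.comap (algebraMap P (FTCompl I P))),
      Localization.localRingHom (q.comap (algebraMap P (FTCompl I P))) q (algebraMap P (FTCompl I P)) rfl x ∈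
          IsLocalRing.maximalIdeal (Localization.AtPrime q) ^ m →
        x ∈ IsLocalRing.maximalIdeal (Localization.AtPrime (q.comap (algebraMap P (FTCompl I P)))) ^ m) ∧
    ∀ y : Localization.AtPrime q, ∃ x : Localization.AtPrime (q.comap (algebraMap P (FTCompl I P))),
      y - Localization.localRingHom (q.comap (algebraMap P (FTCompl I P))) q (algebraMap P (FTCompl I P)) rfl x ∈
        IsLocalRing.maximalIdeal (Localization.AtPrime q) ^ m := by
  let q0 := q.comap (algebraMap P (FTCompl I P))
  obtain ⟨h1, h2⟩ := quotientMap_pow_bijective q m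
  have hq : (q0 ^ m).map (algebraMap P (FTCompl I P)) = q ^ m := by
    rw [Ideal.map_pow, ← eq_map_comap_completion q]
  rw [hq] at h1 h2
  have hle : q ^ m ≤ q := Ideal.pow_le_self (by omega)
  have hden : ∀ t : (FTCompl I P), t ∉ q → ∃ t0 : P, t0 ∉ q0 ∧ t - algebraMap P (FTCompl I P) t0 ∈ q ^ m := fun t ht => by
    obtain ⟨t0, h⟩ := h1 t
    exact ⟨t0, fun h0 => ht (by simpa using add_mem (hle h) (show algebraMap P (FTCompl I P) t0 ∈ q from h0)), h⟩
  rw [← Localization.AtPrime.map_eq_maximalIdeal, ← Localization.AtPrime.map_eq_maximalIdeal,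
    ← Ideal.map_pow, ← Ideal.map_pow]
  constructor
  · intro x hx
    obtain ⟨⟨a, s⟩, hs⟩ := IsLocalization.surj q0.primeCompl x
    rw [IsLocalization.mem_map_algebraMap_iff q0.primeCompl]
    have h := Ideal.mul_mem_right (algebraMap (FTCompl I P) (Localization.AtPrime q) (algebraMap P (FTCompl I P) s.1)) _ hx
    rw [← Localization.localRingHom_to_map q0 q (algebraMap P (FTCompl I P)) rfl s.1, ← map_mul, hs,
      Localization.localRingHom_to_map] at h
    obtain ⟨t, ht⟩ := (IsLocalization.algebraMap_mem_map_algebraMap_iff q.primeCompl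
      (Localization.AtPrime q) _ _).mp h
    obtain ⟨t0, ht0, hd⟩ := hden t ht.1
    have hta : t0 * a ∈ q0 ^ m := h2 _ (by
      rw [map_mul]
      have := sub_mem ht.2 (Ideal.mul_mem_right (algebraMap P (FTCompl I P) a) _ hd)
      rwa [← sub_mul, sub_sub_cancel] at this)
    refine ⟨⟨⟨t0 * a, hta⟩, ⟨t0, ht0⟩ * s⟩, ?_⟩
    simp only [Submonoid.coe_mul, map_mul]
    rw [← hs]
    ring
  · intro y
    obtain ⟨⟨c, t⟩, hy⟩ := IsLocalization.surj q.primeCompl y
    obtain ⟨c0, hc⟩ := h1 c
    obtain ⟨t0, ht0, htd⟩ := hden t.1 t.2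
    refine ⟨IsLocalization.mk' _ c0 (⟨t0, ht0⟩ : q0.primeCompl), ?_⟩
    rw [Localization.localRingHom_mk']
    have hu1 : IsUnit (algebraMap (FTCompl I P) (Localization.AtPrime q) t.1) := IsLocalization.map_units _ t
    have hu2 : IsUnit (algebraMap (FTCompl I P) (Localization.AtPrime q) (algebraMap P (FTCompl I P) t0)) :=
      IsLocalization.map_units _ (⟨algebraMap P (FTCompl I P) t0, ht0⟩ : q.primeCompl)
    refine (Ideal.unit_mul_mem_iff_mem _ (hu1.mul hu2)).mp ?_
    have e : algebraMap (FTCompl I P) (Localization.AtPrime q) t.1 *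
        algebraMap (FTCompl I P) (Localization.AtPrime q) (algebraMap P (FTCompl I P) t0) *
        (y - IsLocalization.mk' (Localization.AtPrime q) (algebraMap P (FTCompl I P) c0)
          (⟨algebraMap P (FTCompl I P) t0, ht0⟩ : q.primeCompl)) =
        algebraMap (FTCompl I P) (Localization.AtPrime q) (c * algebraMap P (FTCompl I P) t0 - algebraMap P (FTCompl I P) c0 * t.1) := by
      have := IsLocalization.mk'_spec (Localization.AtPrime q) (algebraMap P (FTCompl I P) c0)
        (⟨algebraMap P (FTCompl I P) t0, ht0⟩ : q.primeCompl)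
      simp only [map_sub, map_mul]
      linear_combination (algebraMap (FTCompl I P) (Localization.AtPrime q) (algebraMap P (FTCompl I P) t0)) * hy -
        (algebraMap (FTCompl I P) (Localization.AtPrime q) t.1) * this
    rw [e]
    refine Ideal.mem_map_of_mem _ ?_
    have e2 : c * algebraMap P (FTCompl I P) t0 - algebraMap P (FTCompl I P) c0 * t.1 =
      (c - algebraMap P (FTCompl I P) c0) * algebraMap P (FTCompl I P) t0 - algebraMap P (FTCompl I P) c0 * (t.1 - algebraMap P (FTCompl I P) t0) := by ring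
    rw [e2]
    exact sub_mem (Ideal.mul_mem_right _ _ hc) (Ideal.mul_mem_left _ _ htd)

end Groth.L05.Rig
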