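import Groth.Agent.L05.Rig.Hom
import Groth.Agent.L05.Rig.Compl
import Mathlib.RingTheory.TensorProduct.MvPolynomial
import Mathlib.RingTheory.Flat.Stability
import Mathlib.RingTheory.AdicCompletion.AsTensorProduct

/-!
# Restricted power series over flat maps, and quotients
-/

set_option autoImplicit false

universe u

namespace Groth.L05.Rig

open TensorProduct

section Completion

variable {R : Type u} [CommRing R] {J : Ideal R}

theorem exists_lift_completion (hJ : J.FG) {T : Type u} [CommRing T] (K : Ideal T) [IsAdicComplete K T]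
    (φ : R →+* T) (hK : J.map φ ≤ K) :
    ∃ ψ : AdicCompletion J R →+* T, ψ.comp (algebraMap R (AdicCompletion J R)) = φ := by
  letI : Algebra R T := φ.toAlgebra
  obtain ⟨Ψ, hΨ, -⟩ := Chart.existsUnique_completion_lift (R := R) hJ K (Algebra.ofId R T) hK
  exact ⟨Ψ.toRingHom, RingHom.ext fun a => hΨ a⟩

theorem exists_approx_completion_self (hJ : J.FG) (n : ℕ) (x : AdicCompletion J R) :
    ∃ s : R, x - algebraMap R (AdicCompletion J R) s ∈ (J ^ n).map (algebraMap R (AdicCompletion J R)) := by
  obtain ⟨s, hs⟩ := Submodule.Quotient.mk_surjective _ (x.val n)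
  refine ⟨s, ?_⟩
  rw [← Submodule.restrictScalars_mem R, ← Ideal.smul_top_eq_map, AdicCompletion.pow_smul_top_eq_ker_eval hJ,
    LinearMap.mem_ker]
  show (x - algebraMap R (AdicCompletion J R) s).val n = 0
  rw [AdicCompletion.val_sub_apply, AdicCompletion.algebraMap_apply, sub_eq_zero]
  exact hs.symm

theorem hom_ext_completion (hJ : J.FG) {T : Type u} [CommRing T] (K : Ideal T) [IsHausdorff K T]
    {ψ₁ ψ₂ : AdicCompletion J R →+* T} (hK : J.map (ψ₁.comp (algebraMap R (AdicCompletion J R))) ≤ K)
    (he : ψ₁.comp (algebraMap R (AdicCompletion J R)) = ψ₂.comp (algebraMap R (AdicCompletion J R))) :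
    ψ₁ = ψ₂ := by
  refine RingHom.ext fun x => sub_eq_zero.mp (IsHausdorff.haus (inferInstance : IsHausdorff K T) _ fun n => ?_)
  obtain ⟨s, hs⟩ := exists_approx_completion_self hJ n x
  rw [SModEq.zero, smul_eq_mul, Ideal.mul_top]
  have hmem : ∀ ψ : AdicCompletion J R →+* T, J.map (ψ.comp (algebraMap R (AdicCompletion J R))) ≤ K →
      ψ x - ψ (algebraMap R (AdicCompletion J R) s) ∈ K ^ n := fun ψ hψ => by
    rw [← map_sub]
    have h1 := Ideal.mem_map_of_mem ψ hs
    rw [Ideal.map_map, Ideal.map_pow] at h1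
    exact pow_le_pow_left' hψ n h1
  have h1 := hmem ψ₁ hK
  have h2 := hmem ψ₂ (he ▸ hK)
  have e := RingHom.congr_fun he s
  simp only [RingHom.comp_apply] at e
  rw [← e] at h2
  simpa using sub_mem h1 h2

end Completion

section Surjective

/-- A ring map between complete rings which is surjective modulo the ideal is surjective. -/
theorem surjective_of_surjective_mod {R T : Type u} [CommRing R] [CommRing T] {K : Ideal R}
    [IsAdicComplete K R] (π : R →+* T) [hT : IsHausdorff (K.map π) T]
    (h : ∀ t : T, ∃ r : R, t - π r ∈ K.map π) : Function.Surjective π := by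
  letI : Algebra R T := π.toAlgebra
  haveI : IsHausdorff K T := IsHausdorff.map_algebraMap_iff.mp
    (show IsHausdorff (K.map (algebraMap R T)) T from hT)
  have hs : Function.Surjective (Algebra.linearMap R T) := by
    refine surjective_of_mkQ_comp_surjective (I := K) (f := Algebra.linearMap R T) fun z => ?_
    obtain ⟨t, rfl⟩ := Submodule.Quotient.mk_surjective _ z
    obtain ⟨r, hr⟩ := h t
    refine ⟨r, (Submodule.Quotient.eq _).mpr ?_⟩
    rw [Ideal.smul_top_eq_map, Submodule.restrictScalars_mem, ← neg_sub]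
    exact neg_mem hr
  exact hs

end Surjective

section Poly

variable {R S : Type u} [CommRing R] [CommRing S] {ι : Type}

theorem flat_mvPolynomial_map (g : R →+* S) (hg : g.Flat) :
    (MvPolynomial.map g : MvPolynomial ι R →+* MvPolynomial ι S).Flat := by
  letI := g.toAlgebra
  haveI : Module.Flat R S := hg
  let e : MvPolynomial ι R ⊗[R] S ≃ₐ[R] MvPolynomial ι S :=
    (Algebra.TensorProduct.comm R (MvPolynomial ι R) S).trans
      ((MvPolynomial.algebraTensorAlgEquiv R S).restrictScalars R)
  have he : (MvPolynomial.map g : MvPolynomial ι R →+* MvPolynomial ι S) =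
      e.toRingEquiv.toRingHom.comp (algebraMap (MvPolynomial ι R) (MvPolynomial ι R ⊗[R] S)) := by
    refine RingHom.ext fun p => ?_
    show MvPolynomial.map g p = e (p ⊗ₜ[R] (1 : S))
    rw [AlgEquiv.trans_apply, Algebra.TensorProduct.comm_tmul, AlgEquiv.restrictScalars_apply,
      MvPolynomial.algebraTensorAlgEquiv_tmul, one_smul, RingHom.algebraMap_toAlgebra]
  rw [he]
  exact (RingHom.flat_algebraMap_iff.mpr inferInstance).comp (RingHom.Flat.of_bijective e.bijective)

theorem flatAt_mvPolynomial_map {g : R →+* S} (Q : Ideal (MvPolynomial ι S)) [Q.IsPrime] {q : Ideal S}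
    [q.IsPrime] (hq : q = Q.comap MvPolynomial.C) (hg : FlatAt g q) : FlatAt (MvPolynomial.map g) Q := by
  let Sq := Localization.AtPrime q
  let M := Localization.AtPrime Q
  have hu : ∀ y : q.primeCompl, IsUnit ((algebraMap (MvPolynomial ι S) M).comp MvPolynomial.C y.1) := fun y =>
    IsLocalization.map_units M (⟨MvPolynomial.C y.1, fun h => y.2 (hq.ge h)⟩ : Q.primeCompl)
  let ν : MvPolynomial ι Sq →+* M :=
    MvPolynomial.eval₂Hom (IsLocalization.lift (S := Sq) hu) fun i => algebraMap (MvPolynomial ι S) M (MvPolynomial.X i)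
  have hν : ν.comp (MvPolynomial.map (algebraMap S Sq)) = algebraMap (MvPolynomial ι S) M := by
    refine MvPolynomial.ringHom_ext (fun s => ?_) fun i => ?_
    · simp [ν, IsLocalization.lift_eq]
    · simp [ν]
  letI := ν.toAlgebra
  letI : Algebra (MvPolynomial ι S) (MvPolynomial ι Sq) := (MvPolynomial.map (algebraMap S Sq)).toAlgebra
  haveI : IsScalarTower (MvPolynomial ι S) (MvPolynomial ι Sq) M := IsScalarTower.of_algebraMap_eq' hν.symm
  haveI : IsLocalization (q.primeCompl.map (MvPolynomial.C : S →+* MvPolynomial ι S)) (MvPolynomial ι Sq) :=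
    MvPolynomial.isLocalization q.primeCompl Sq
  haveI : Module.Flat (MvPolynomial ι S) M := IsLocalization.flat M Q.primeCompl
  have hνflat : ν.Flat := (Module.flat_iff_of_isLocalization (MvPolynomial ι Sq)
    (q.primeCompl.map (MvPolynomial.C : S →+* MvPolynomial ι S)) M).mpr inferInstance
  show RingHom.Flat _
  have e : (algebraMap (MvPolynomial ι S) M).comp (MvPolynomial.map g) =
      ν.comp (MvPolynomial.map ((algebraMap S Sq).comp g)) := by
    rw [← hν, RingHom.comp_assoc]
    congr 1
    exact RingHom.ext fun p => MvPolynomial.map_map _ _ p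
  rw [e]
  exact (flat_mvPolynomial_map _ hg).comp hνflat

end Poly

section Quotient

/-- Flatness at a point passes to quotients. -/
theorem flatAt_quotient {P P' C T : Type u} [CommRing P] [CommRing P'] [CommRing C] [CommRing T]
    {μ : P →+* P'} {π : P →+* C} (hπ : Function.Surjective π) {π' : P' →+* T} (hπ' : Function.Surjective π')
    {κ : C →+* T} (hκ : κ.comp π = π'.comp μ) (hker : RingHom.ker π' ≤ (RingHom.ker π).map μ)
    {r : Ideal T} [r.IsPrime] {Q : Ideal P'} [Q.IsPrime] (hQ : Q = r.comap π') (h : FlatAt μ Q) :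
    FlatAt κ r := by
  let M := Localization.AtPrime Q
  let Tr := Localization.AtPrime r
  let L := RingHom.ker π
  letI : Algebra P M := ((algebraMap P' M).comp μ).toAlgebra
  haveI : Module.Flat P M := h
  let Λ : M →+* Tr := Localization.localRingHom Q r π' hQ
  have hΛs : Function.Surjective Λ := fun y => by
    obtain ⟨c, t, rfl⟩ := IsLocalization.exists_mk'_eq r.primeCompl y
    obtain ⟨c', rfl⟩ := hπ' c
    obtain ⟨t', ht'⟩ := hπ' t.1
    refine ⟨IsLocalization.mk' M c' (⟨t', fun hm => t.2 (ht' ▸ (hQ.le hm : π' t' ∈ r))⟩ : Q.primeCompl), ?_⟩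
    rw [Localization.localRingHom_mk']
    congr 1
    exact Subtype.ext ht'
  have hΛk : RingHom.ker Λ = L.map (algebraMap P M) := by
    refine le_antisymm (fun x hx => ?_) (Ideal.map_le_iff_le_comap.mpr fun l hl => ?_)
    · obtain ⟨a, s, rfl⟩ := IsLocalization.exists_mk'_eq Q.primeCompl x
      rw [RingHom.mem_ker, Localization.localRingHom_mk', IsLocalization.mk'_eq_zero_iff] at hx
      obtain ⟨⟨t, ht⟩, hta⟩ := hx
      obtain ⟨t', rfl⟩ := hπ' t
      rw [← map_mul] at hta
      have hmem : algebraMap P' M (t' * a) ∈ L.map (algebraMap P M) := by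
        rw [RingHom.algebraMap_toAlgebra, ← Ideal.map_map]
        exact Ideal.mem_map_of_mem _ (hker hta)
      rw [map_mul, Ideal.unit_mul_mem_iff_mem _
        (IsLocalization.map_units M (⟨t', fun hm => ht (hQ.le hm : π' t' ∈ r)⟩ : Q.primeCompl))] at hmem
      exact (Ideal.unit_mul_mem_iff_mem _ (IsLocalization.map_units M s)).mp (by
        rw [IsLocalization.mk'_spec']
        exact hmem)
    · have e0 : π' (μ l) = 0 := by
        have h0 := RingHom.congr_fun hκ l
        simp only [RingHom.comp_apply, RingHom.mem_ker.mp hl, map_zero] at h0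
        exact h0.symm
      rw [Ideal.mem_comap, RingHom.mem_ker]
      show Λ (algebraMap P' M (μ l)) = 0
      rw [Localization.localRingHom_to_map, e0, map_zero]
  haveI : Module.Flat (P ⧸ L) (M ⧸ L.map (algebraMap P M)) := Module.Flat.of_linearEquiv
    (Algebra.TensorProduct.quotIdealMapEquivQuotTensor M L).toLinearEquiv
  let e2 : M ⧸ L.map (algebraMap P M) ≃+* Tr :=
    (Ideal.quotEquivOfEq hΛk.symm).trans (RingHom.quotientKerEquivOfSurjective hΛs)
  let e1 : P ⧸ L ≃+* C := RingHom.quotientKerEquivOfSurjective hπ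
  have key : (algebraMap T Tr).comp κ =
      e2.toRingHom.comp ((algebraMap (P ⧸ L) (M ⧸ L.map (algebraMap P M))).comp e1.symm.toRingHom) := by
    refine RingHom.ext fun c => ?_
    obtain ⟨p, rfl⟩ := hπ c
    have h1 : e1.symm (π p) = Ideal.Quotient.mk L p :=
      e1.symm_apply_eq.mpr (RingHom.quotientKerEquivOfSurjective_apply_mk hπ p).symm
    show algebraMap T Tr (κ (π p)) = e2 (algebraMap (P ⧸ L) (M ⧸ L.map (algebraMap P M)) (e1.symm (π p)))
    rw [h1, show κ (π p) = π' (μ p) from RingHom.congr_fun hκ p,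
      ← Localization.localRingHom_to_map Q r π' hQ]
    rfl
  show RingHom.Flat _
  rw [key]
  exact ((RingHom.Flat.of_bijective e1.symm.bijective).comp
    (RingHom.flat_algebraMap_iff.mpr inferInstance)).comp (RingHom.Flat.of_bijective e2.bijective)

end Quotient

section Compl

variable {R R' : Type u} [CommRing R] [IsNoetherianRing R] [CommRing R'] [IsNoetherianRing R'] {K : Ideal R}
  [IsAdicComplete K R] {n : ℕ}

/-- Restricted power series preserve flatness at points finite over the base. -/
theorem flatAt_restrictedPowerSeries {g : R →+* R'} {K' : Ideal R'} [IsAdicComplete K' R']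
    {μ : FTCompl K (MvPolynomial (Fin n) R) →+* FTCompl K' (MvPolynomial (Fin n) R')}
    (hμ : μ.comp (algebraMap (MvPolynomial (Fin n) R) (FTCompl K (MvPolynomial (Fin n) R))) =
      (algebraMap (MvPolynomial (Fin n) R') (FTCompl K' (MvPolynomial (Fin n) R'))).comp (MvPolynomial.map g))
    (Q : Ideal (FTCompl K' (MvPolynomial (Fin n) R'))) [Q.IsPrime]
    [Module.Finite R (FTCompl K (MvPolynomial (Fin n) R) ⧸ Q.comap μ)]
    (q : Ideal R') [q.IsPrime]
    (hq : q = Q.comap (algebraMap R' (FTCompl K' (MvPolynomial (Fin n) R'))))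
    (hg : FlatAt g q) : FlatAt μ Q := by
  let ιR := algebraMap (MvPolynomial (Fin n) R) (FTCompl K (MvPolynomial (Fin n) R))
  let ιR' := algebraMap (MvPolynomial (Fin n) R') (FTCompl K' (MvPolynomial (Fin n) R'))
  haveI : IsNoetherianRing (FTCompl K (MvPolynomial (Fin n) R)) := isNoetherianRing_completion
  haveI : IsNoetherianRing (FTCompl K' (MvPolynomial (Fin n) R')) := isNoetherianRing_completion
  haveI : (Q.comap μ).IsPrime := Ideal.comap_isPrime _ _
  haveI : (Q.comap ιR').IsPrime := Ideal.comap_isPrime _ _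
  have hι : ιR'.Flat := RingHom.flat_algebraMap_iff.mpr (AdicCompletion.flat_of_isNoetherian _)
  have h1 : FlatAt (MvPolynomial.map g) (Q.comap ιR') := flatAt_mvPolynomial_map _ (by
    rw [hq, Ideal.comap_comap, ← MvPolynomial.algebraMap_eq, ← IsScalarTower.algebraMap_eq]) hg
  have h2 : FlatAt (ιR'.comp (MvPolynomial.map g)) Q := flatAt_comp rfl h1 (flatAt_of_flat ιR' hι Q)
  rw [← hμ] at h2
  refine flatAt_of_map_eq rfl ((Q.comap μ).comap ιR) ?_ h2
  rw [← eq_map_comap_completion (A := R) (Q.comap μ)]
  exact Localization.AtPrime.map_eq_maximalIdeal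

end Compl

end Groth.L05.Rig
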