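import Groth.Agent.L05.Rig.RigFlat
import Groth.Agent.L05.Rig.PolyFlat
import Mathlib.RingTheory.TensorProduct.Finite
import Mathlib.RingTheory.FiniteType

/-!
# Rig-flatness and completed base change
-/

set_option autoImplicit false

universe u

namespace Groth.L05.Rig

open TensorProduct

variable {A : Type u} [CommRing A] [IsNoetherianRing A] {I : Ideal A}
  {B : Type u} [CommRing B] [Algebra A B] {C : Type u} [CommRing C] [Algebra A C]

variable (I B C) in
/-- The completed tensor product. -/
abbrev ComplTensor : Type u :=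
  AdicCompletion ((I.map (algebraMap A C)).map (algebraMap C (C ⊗[A] B))) (C ⊗[A] B)

omit [IsNoetherianRing A] in
theorem map_map_tensor : (I.map (algebraMap A C)).map (algebraMap C (C ⊗[A] B)) =
    I.map (algebraMap A (C ⊗[A] B)) :=
  (Ideal.map_map _ _).trans (congrArg (fun g => Ideal.map g I) (IsScalarTower.algebraMap_eq A C (C ⊗[A] B)).symm)

omit [IsNoetherianRing A] in
theorem finiteType_tensor_quotient (hftB : Algebra.FiniteType A (B ⧸ I.map (algebraMap A B)))
    (hftC : Algebra.FiniteType A (C ⧸ I.map (algebraMap A C))) :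
    Algebra.FiniteType A ((C ⊗[A] B) ⧸ (I.map (algebraMap A C)).map (algebraMap C (C ⊗[A] B))) := by
  let K := (I.map (algebraMap A C)).map (algebraMap C (C ⊗[A] B))
  have hC : I.map (algebraMap A C) ≤ K.comap (Algebra.TensorProduct.includeLeft : C →ₐ[A] C ⊗[A] B) :=
    Ideal.le_comap_map
  have hB : I.map (algebraMap A B) ≤ K.comap (Algebra.TensorProduct.includeRight : B →ₐ[A] C ⊗[A] B) := by
    rw [Ideal.map_le_iff_le_comap]
    intro a ha
    show (Algebra.TensorProduct.includeRight : B →ₐ[A] C ⊗[A] B) (algebraMap A B a) ∈ K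
    rw [AlgHom.commutes]
    exact map_map_tensor.ge (Ideal.mem_map_of_mem _ ha)
  let e : (C ⧸ I.map (algebraMap A C)) ⊗[A] (B ⧸ I.map (algebraMap A B)) →ₐ[A] (C ⊗[A] B) ⧸ K :=
    Algebra.TensorProduct.lift (Ideal.quotientMapₐ K Algebra.TensorProduct.includeLeft hC)
      (Ideal.quotientMapₐ K Algebra.TensorProduct.includeRight hB) fun _ _ => Commute.all _ _
  have he : Function.Surjective e := by
    intro y
    obtain ⟨x, rfl⟩ := Ideal.Quotient.mk_surjective y
    induction x using TensorProduct.induction_on with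
    | zero => exact ⟨0, by rw [map_zero, map_zero]⟩
    | add a b ha hb =>
      obtain ⟨u, hu⟩ := ha
      obtain ⟨v, hv⟩ := hb
      exact ⟨u + v, by rw [map_add, map_add, hu, hv]⟩
    | tmul c b =>
      refine ⟨Ideal.Quotient.mk _ c ⊗ₜ Ideal.Quotient.mk _ b, ?_⟩
      rw [Algebra.TensorProduct.lift_tmul]
      show Ideal.Quotient.mk K (c ⊗ₜ[A] (1 : B)) * Ideal.Quotient.mk K ((1 : C) ⊗ₜ[A] b) = _
      rw [← map_mul, Algebra.TensorProduct.tmul_mul_tmul, mul_one, one_mul]
  haveI := hftB
  haveI := hftC
  haveI : Algebra.FiniteType A ((C ⧸ I.map (algebraMap A C)) ⊗[A] (B ⧸ I.map (algebraMap A B))) :=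
    Algebra.FiniteType.trans hftC inferInstance
  exact Algebra.FiniteType.of_surjective e he

theorem isNoetherianRing_complTensor (hftB : Algebra.FiniteType A (B ⧸ I.map (algebraMap A B)))
    (hftC : Algebra.FiniteType A (C ⧸ I.map (algebraMap A C))) : IsNoetherianRing (ComplTensor I B C) := by
  haveI := finiteType_tensor_quotient hftB hftC
  haveI := Algebra.FiniteType.isNoetherianRing A ((C ⊗[A] B) ⧸ (I.map (algebraMap A C)).map (algebraMap C (C ⊗[A] B)))
  exact L01.AdicNoeth.isNoetherianRing_adicCompletion _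
    (Ideal.FG.map (Ideal.FG.map (IsNoetherian.noetherian I) _) _)

omit [IsNoetherianRing A] in
theorem map_algebraMap_complTensor :
    (I.map (algebraMap A C)).map (algebraMap C (ComplTensor I B C)) =
      ((I.map (algebraMap A C)).map (algebraMap C (C ⊗[A] B))).map (algebraMap (C ⊗[A] B) (ComplTensor I B C)) :=
  ((Ideal.map_map _ _).trans (congrArg (fun g => Ideal.map g (I.map (algebraMap A C)))
    (IsScalarTower.algebraMap_eq C (C ⊗[A] B) (ComplTensor I B C)).symm)).symm

theorem isAdicComplete_complTensor :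
    IsAdicComplete ((I.map (algebraMap A C)).map (algebraMap C (ComplTensor I B C))) (ComplTensor I B C) := by
  have hfg : ((I.map (algebraMap A C)).map (algebraMap C (C ⊗[A] B))).FG :=
    Ideal.FG.map (Ideal.FG.map (IsNoetherian.noetherian I) _) _
  have h := AdicCompletion.isAdicComplete_self _ hfg
  rw [map_algebraMap_complTensor]
  exact h

theorem map_map_eq {R S T : Type u} [CommRing R] [CommRing S] [CommRing T] {J : Ideal R} {f : R →+* S}
    {g : S →+* T} {k : R →+* T} (h : g.comp f = k) : (J.map f).map g = J.map k := by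
  rw [Ideal.map_map, h]

variable [IsAdicComplete I A] [IsNoetherianRing B] [IsNoetherianRing C]

/-- Rig-flatness is preserved by completed base change. -/
theorem rigFlat_baseChange (hft : Algebra.FiniteType A (B ⧸ I.map (algebraMap A B)))
    (hftC : Algebra.FiniteType A (C ⧸ I.map (algebraMap A C))) (hAB : RigFlatHyp A B I) :
    RigFlatHyp C (ComplTensor I B C) (I.map (algebraMap A C)) := by
  let T := ComplTensor I B C
  let U := C ⊗[A] B
  haveI : IsNoetherianRing T := isNoetherianRing_complTensor hft hftC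
  haveI hTc := isAdicComplete_complTensor (I := I) (B := B) (C := C)
  refine RigFlatHyp.intro fun h ψh hψh r _ hp => ?_
  let JC := I.map (algebraMap A C)
  let JT := JC.map (algebraMap C T)
  let hT := algebraMap C T h
  let φ := Ideal.Quotient.mk r
  have hφfin : φ.Finite := RingHom.Finite.of_surjective _ Ideal.Quotient.mk_surjective
  let jB : B →+* T := (algebraMap U T).comp (Algebra.TensorProduct.includeRight : B →ₐ[A] U).toRingHom
  have hjB : jB.comp (algebraMap A B) = (algebraMap C T).comp (algebraMap A C) := by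
    refine RingHom.ext fun a => ?_
    show algebraMap U T ((Algebra.TensorProduct.includeRight : B →ₐ[A] U) (algebraMap A B a)) = _
    rw [AlgHom.commutes, RingHom.comp_apply, IsScalarTower.algebraMap_apply C U T,
      IsScalarTower.algebraMap_apply A C U]
  have eJT : JT = (I.map (algebraMap A B)).map jB :=
    (map_map_eq hjB.symm).trans (Ideal.map_map _ _).symm
  let φ0 := φ.comp (algebraMap T (AwayCompl JT hT))
  have hp0 : IsPt JT φ0 := hp.comp rfl
  let φC := φ0.comp (algebraMap C T)
  have hpC : IsPt JC φC := hp0.comp rfl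
  let φA := φC.comp (algebraMap A C)
  have hpA : IsPt I φA := hpC.comp rfl
  let φB := φ0.comp jB
  have hpB : IsPt (I.map (algebraMap A B)) φB := hp0.comp eJT
  have eA : φB.comp (algebraMap A B) = φA := by
    show (φ0.comp jB).comp (algebraMap A B) = (φ0.comp (algebraMap C T)).comp (algebraMap A C)
    rw [RingHom.comp_assoc, hjB, ← RingHom.comp_assoc]
  -- modulo `I`, the completion is a quotient of the tensor product
  have hftCT : FTMod JC (algebraMap C T) := by
    refine ftMod_algebraMap ?_
    haveI : Algebra.FiniteType C (U ⧸ JC.map (algebraMap C U)) := by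
      haveI := finiteType_tensor_quotient hft hftC
      exact Algebra.FiniteType.of_restrictScalars_finiteType A _ _
    let K := JC.map (algebraMap C T)
    have hle : JC.map (algebraMap C U) ≤ K.comap (IsScalarTower.toAlgHom C U T) := by
      rw [Ideal.map_le_iff_le_comap]
      intro c hc
      show algebraMap U T (algebraMap C U c) ∈ K
      rw [← IsScalarTower.algebraMap_apply]
      exact Ideal.mem_map_of_mem _ hc
    refine Algebra.FiniteType.of_surjective (Ideal.quotientMapₐ K (IsScalarTower.toAlgHom C U T) hle) fun y => ?_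
    obtain ⟨x, rfl⟩ := Ideal.Quotient.mk_surjective y
    obtain ⟨s, hs⟩ := exists_approx_completion_self
      (Ideal.FG.map (Ideal.FG.map (IsNoetherian.noetherian I) _) _) 1 x
    refine ⟨Ideal.Quotient.mk _ s, (Ideal.Quotient.eq.mpr ?_).symm⟩
    rw [pow_one] at hs
    exact map_algebraMap_complTensor.ge hs
  have hftCD : FTMod JC φC := by
    have := (hftCT.awayCompl (J := JT) rfl hT).comp_finite hφfin
    rwa [← RingHom.comp_assoc] at this
  obtain ⟨g0, hg0, hgfin⟩ := exists_away_finite hpC hftCD
  have huh : IsUnit (φC h) := (isUnit_algebraMap_of_dvd dvd_rfl).map φ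
  let g := g0 * h
  have hug : IsUnit (φC g) := by rw [map_mul]; exact hg0.mul huh
  obtain ⟨ρg, hρg⟩ := hpC.exists_lift hug
  have hρgfin : ρg.Finite := hgfin g (dvd_mul_right _ _) ρg hρg
  have hftAD : FTMod I φA := by
    have := ((ftMod_algebraMap hftC).awayCompl (J := JC) rfl g).comp_finite hρgfin
    rwa [← RingHom.comp_assoc, hρg] at this
  obtain ⟨f, hf, hffin⟩ := exists_away_finite hpA hftAD
  obtain ⟨ρf, hρf⟩ := hpA.exists_lift hf
  have hρffin : ρf.Finite := hffin f dvd_rfl ρf hρf
  have hufB : IsUnit (φB (algebraMap A B f)) := by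
    rw [← RingHom.comp_apply φB, eA]; exact hf
  obtain ⟨φBf, hφBf⟩ := hpB.exists_lift hufB
  obtain ⟨ψf, hψf⟩ := exists_map_awayCompl (J := I) (J' := I.map (algebraMap A B)) (h := f)
    (h' := algebraMap A B f) (algebraMap A B) rfl dvd_rfl
  have ef : φBf.comp ψf = ρf := hpA.hom_ext (by
    rw [RingHom.comp_assoc, hψf, ← RingHom.comp_assoc, hφBf, eA]) hρf
  have hφBffin : φBf.Finite := RingHom.Finite.of_comp_finite (f := ψf) (ef ▸ hρffin)
  have hpBf := hpB.of_lift hφBf
  haveI := hpBf.isPrime_ker
  have h1 : FlatAt ψf (RingHom.ker φBf) := hAB.flatAt hψf hpBf hφBffin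
  let c := g * algebraMap A C f
  let cT := algebraMap C T c
  let R0 := AwayCompl I f
  let B0 := AwayCompl (I.map (algebraMap A B)) (algebraMap A B f)
  let C0 := AwayCompl JC c
  let T0 := AwayCompl JT cT
  haveI : IsNoetherianRing R0 := isNoetherianRing_awayCompl _ _
  haveI : IsNoetherianRing B0 := isNoetherianRing_awayCompl _ _
  haveI : IsNoetherianRing C0 := isNoetherianRing_awayCompl _ _
  haveI : IsNoetherianRing T0 := isNoetherianRing_awayCompl _ _
  let K0 := I.map (algebraMap A R0)
  let KB := (I.map (algebraMap A B)).map (algebraMap B B0)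
  let KC := JC.map (algebraMap C C0)
  let KT := JT.map (algebraMap T T0)
  haveI : IsAdicComplete K0 R0 := isAdicComplete_awayCompl _ _
  haveI : IsAdicComplete KB B0 := isAdicComplete_awayCompl _ _
  haveI : IsAdicComplete KC C0 := isAdicComplete_awayCompl _ _
  haveI : IsAdicComplete KT T0 := isAdicComplete_awayCompl _ _
  have hdf : algebraMap A C f ∣ c := dvd_mul_left _ _
  have hdfT : jB (algebraMap A B f) ∣ cT := by
    rw [← RingHom.comp_apply, hjB]; exact map_dvd (algebraMap C T) hdf
  obtain ⟨α, hα⟩ := exists_map_awayCompl (J := I) (J' := JC) (h := f) (h' := c) (algebraMap A C) rfl hdf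
  obtain ⟨β, hβ⟩ := exists_map_awayCompl (J := JC) (J' := JT) (h := c) (h' := cT) (algebraMap C T) rfl dvd_rfl
  obtain ⟨δ, hδ⟩ := exists_map_awayCompl (J := I.map (algebraMap A B)) (J' := JT) (h := algebraMap A B f)
    (h' := cT) jB eJT hdfT
  have hsq : δ.comp ψf = β.comp α := map_hom_ext ((algebraMap C T).comp (algebraMap A C))
    (show JT = I.map _ from Ideal.map_map _ _) (by
    rw [RingHom.comp_assoc, hψf, ← RingHom.comp_assoc, hδ, RingHom.comp_assoc, hjB]) (by
    rw [RingHom.comp_assoc, hα, ← RingHom.comp_assoc, hβ, RingHom.comp_assoc])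
  -- generators modulo the ideal
  have hKCA : KC = I.map ((algebraMap C C0).comp (algebraMap A C)) := Ideal.map_map _ _
  obtain ⟨n, x, hx⟩ : ∃ (n : ℕ) (x : Fin n → C0),
      ∀ y : C0, ∃ p : MvPolynomial (Fin n) A,
        y - MvPolynomial.eval₂ ((algebraMap C C0).comp (algebraMap A C)) x p ∈ KC := by
    have h0 : FTMod I ((algebraMap C C0).comp (algebraMap A C)) := (ftMod_algebraMap hftC).awayCompl (J := JC) rfl c
    letI : Algebra A (C0 ⧸ I.map ((algebraMap C C0).comp (algebraMap A C))) :=
      ((Ideal.Quotient.mk _).comp ((algebraMap C C0).comp (algebraMap A C))).toAlgebra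
    obtain ⟨n, F, hF⟩ := Algebra.FiniteType.iff_quotient_mvPolynomial''.mp
      (show Algebra.FiniteType A (C0 ⧸ I.map ((algebraMap C C0).comp (algebraMap A C))) from h0)
    choose x hx using fun i => Ideal.Quotient.mk_surjective (F (MvPolynomial.X i))
    refine ⟨n, x, fun y => ?_⟩
    obtain ⟨p, hp'⟩ := hF (Ideal.Quotient.mk _ y)
    refine ⟨p, ?_⟩
    rw [hKCA, ← Ideal.Quotient.eq, ← hp', MvPolynomial.eval₂_comp_left]
    have eF : F.toRingHom = MvPolynomial.eval₂Hom
        ((Ideal.Quotient.mk _).comp ((algebraMap C C0).comp (algebraMap A C))) fun i => Ideal.Quotient.mk _ (x i) := by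
      refine MvPolynomial.ringHom_ext (fun a => ?_) fun i => ?_
      · rw [MvPolynomial.eval₂Hom_C]; exact F.commutes a
      · rw [MvPolynomial.eval₂Hom_X']; exact (hx i).symm
    exact RingHom.congr_fun eF p
  let PR := MvPolynomial (Fin n) R0
  let PB := MvPolynomial (Fin n) B0
  let PA' := FTCompl K0 PR
  let PB' := FTCompl KB PB
  let ιA := algebraMap PR PA'
  let ιB := algebraMap PB PB'
  haveI : IsNoetherianRing PA' := isNoetherianRing_completion
  haveI : IsNoetherianRing PB' := isNoetherianRing_completion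
  haveI : IsAdicComplete (K0.map (algebraMap R0 PA')) PA' := isAdicComplete_completion
  haveI : IsAdicComplete (KB.map (algebraMap B0 PB')) PB' := isAdicComplete_completion
  have fgA : (K0.map (algebraMap R0 PR)).FG := Ideal.FG.map (IsNoetherian.noetherian K0) _
  have fgB : (KB.map (algebraMap B0 PB)).FG := Ideal.FG.map (IsNoetherian.noetherian KB) _
  have hK0α : K0.map α = KC := (map_map_eq hα).trans hKCA.symm
  have hKBδ : KB.map δ = KT :=
    (map_map_eq hδ).trans ((Ideal.map_map _ _).symm.trans (congrArg (Ideal.map (algebraMap T T0)) eJT.symm))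
  have hKCβ : KC.map β = KT := (map_map_eq hβ).trans (Ideal.map_map _ _).symm
  have hCA : ∀ (g : R0 →+* C0), (MvPolynomial.eval₂Hom g x).comp (algebraMap R0 PR) = g := fun g =>
    RingHom.ext fun a => MvPolynomial.eval₂Hom_C g x a
  have hCB : ∀ (g : B0 →+* T0), (MvPolynomial.eval₂Hom g (fun i => β (x i))).comp (algebraMap B0 PB) = g := fun g =>
    RingHom.ext fun a => MvPolynomial.eval₂Hom_C g _ a
  obtain ⟨π, hπ⟩ := exists_lift_completion fgA KC (MvPolynomial.eval₂Hom α x)
    (le_of_eq ((map_map_eq (hCA α)).trans hK0α))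
  obtain ⟨π', hπ'⟩ := exists_lift_completion fgB KT (MvPolynomial.eval₂Hom δ fun i => β (x i))
    (le_of_eq ((map_map_eq (hCB δ)).trans hKBδ))
  have hψK : K0.map ψf = KB := (map_map_eq hψf).trans (Ideal.map_map _ _).symm
  have hmapC : ∀ a : R0, MvPolynomial.map ψf (algebraMap R0 PR a) = algebraMap B0 PB (ψf a) := fun a =>
    MvPolynomial.map_C ψf a
  obtain ⟨μ, hμ⟩ := exists_lift_completion fgA (KB.map (algebraMap B0 PB')) (ιB.comp (MvPolynomial.map ψf)) (by
    have e : (ιB.comp (MvPolynomial.map ψf)).comp (algebraMap R0 PR) = (algebraMap B0 PB').comp ψf := by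
      refine RingHom.ext fun a => ?_
      show ιB (MvPolynomial.map ψf (algebraMap R0 PR a)) = _
      rw [hmapC]
      exact (IsScalarTower.algebraMap_apply B0 PB PB' _).symm
    exact le_of_eq (((map_map_eq e).trans (Ideal.map_map _ _).symm).trans
      (congrArg (Ideal.map (algebraMap B0 PB')) hψK)))
  have hμC : ∀ a : R0, μ (algebraMap R0 PA' a) = algebraMap B0 PB' (ψf a) := fun a =>
    ((congrArg μ (IsScalarTower.algebraMap_apply R0 PR PA' a)).trans (RingHom.congr_fun hμ _)).trans
      ((congrArg ιB (hmapC a)).trans (IsScalarTower.algebraMap_apply B0 PB PB' _).symm)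
  have hπC : ∀ a : R0, π (algebraMap R0 PA' a) = α a := fun a => by
    rw [IsScalarTower.algebraMap_apply R0 PR PA', ← RingHom.comp_apply π, hπ]
    exact MvPolynomial.eval₂Hom_C α x a
  have hπC' : ∀ b : B0, π' (algebraMap B0 PB' b) = δ b := fun b => by
    rw [IsScalarTower.algebraMap_apply B0 PB PB', ← RingHom.comp_apply π', hπ']
    exact MvPolynomial.eval₂Hom_C δ _ b
  have hKπ : (K0.map (algebraMap R0 PA')).map π = KC :=
    (map_map_eq (k := α) (RingHom.ext hπC)).trans hK0α
  have hKπ' : (KB.map (algebraMap B0 PB')).map π' = KT :=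
    (map_map_eq (k := δ) (RingHom.ext hπC')).trans hKBδ
  have hπs : Function.Surjective π := by
    haveI : IsHausdorff ((K0.map (algebraMap R0 PA')).map π) C0 := by
      rw [hKπ]; exact (isAdicComplete_awayCompl JC c).toIsHausdorff
    refine surjective_of_surjective_mod (K := K0.map (algebraMap R0 PA')) π fun y => ?_
    obtain ⟨p, hp'⟩ := hx y
    refine ⟨ιA (MvPolynomial.map (algebraMap A R0) p), ?_⟩
    rw [hKπ, ← RingHom.comp_apply π, hπ, MvPolynomial.coe_eval₂Hom, MvPolynomial.eval₂_map, hα]
    exact hp'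
  have hμX : μ.comp ιA = ιB.comp (MvPolynomial.map ψf) := hμ
  have hsq2 : β.comp π = π'.comp μ := by
    haveI : IsHausdorff KT T0 := (isAdicComplete_awayCompl JT cT).toIsHausdorff
    have eA' : (β.comp π).comp ιA = (π'.comp μ).comp ιA := by
      rw [RingHom.comp_assoc, hπ, RingHom.comp_assoc, hμX, ← RingHom.comp_assoc, hπ']
      refine MvPolynomial.ringHom_ext (fun a => ?_) fun i => ?_
      · show β (MvPolynomial.eval₂Hom α x (MvPolynomial.C a)) =
          MvPolynomial.eval₂Hom δ (fun i => β (x i)) (MvPolynomial.map ψf (MvPolynomial.C a))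
        rw [MvPolynomial.map_C, MvPolynomial.eval₂Hom_C, MvPolynomial.eval₂Hom_C]
        exact (RingHom.congr_fun hsq a).symm
      · show β (MvPolynomial.eval₂Hom α x (MvPolynomial.X i)) =
          MvPolynomial.eval₂Hom δ (fun i => β (x i)) (MvPolynomial.map ψf (MvPolynomial.X i))
        rw [MvPolynomial.map_X, MvPolynomial.eval₂Hom_X', MvPolynomial.eval₂Hom_X']
    refine hom_ext_completion fgA KT ?_ eA'
    have e : ((β.comp π).comp ιA).comp (algebraMap R0 PR) = β.comp α := RingHom.ext fun a =>
      congrArg β ((congrArg π (IsScalarTower.algebraMap_apply R0 PR PA' a).symm).trans (hπC a))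
    exact le_of_eq ((map_map_eq e).trans ((Ideal.map_map _ _).symm.trans
      ((congrArg (Ideal.map β) hK0α).trans hKCβ)))
  have hπ's : Function.Surjective π' := by
    haveI : IsHausdorff ((KB.map (algebraMap B0 PB')).map π') T0 := by
      rw [hKπ']; exact (isAdicComplete_awayCompl JT cT).toIsHausdorff
    refine surjective_of_surjective_mod (K := KB.map (algebraMap B0 PB')) π' fun y => ?_
    rw [hKπ']
    obtain ⟨t, k, hk⟩ := exists_approx_awayCompl JT cT y
    obtain ⟨s, hs⟩ := exists_approx_completion_self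
      (Ideal.FG.map (Ideal.FG.map (IsNoetherian.noetherian I) _) _) 1 t
    rw [pow_one] at hs
    have hs' : t - algebraMap U T s ∈ JT := map_algebraMap_complTensor.ge hs
    have hrC : ∀ z : C0, β z ∈ π'.range := fun z => by
      obtain ⟨w, rfl⟩ := hπs z
      exact ⟨μ w, (RingHom.congr_fun hsq2 w).symm⟩
    have hrU' : ∀ u : U, algebraMap T T0 (algebraMap U T u) ∈ π'.range := fun u => by
      induction u using TensorProduct.induction_on with
      | zero => simp
      | add a b ha hb => rw [map_add, map_add]; exact add_mem ha hb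
      | tmul z b =>
        have e : (z ⊗ₜ[A] b : U) = algebraMap C U z * (Algebra.TensorProduct.includeRight : B →ₐ[A] U) b := by
          show z ⊗ₜ[A] b = (z ⊗ₜ[A] (1 : B)) * ((1 : C) ⊗ₜ[A] b)
          rw [Algebra.TensorProduct.tmul_mul_tmul, mul_one, one_mul]
        rw [e, map_mul, map_mul, ← IsScalarTower.algebraMap_apply C U T]
        refine mul_mem ?_ ?_
        · rw [← RingHom.comp_apply (algebraMap T T0), ← hβ]; exact hrC _
        · show algebraMap T T0 (jB b) ∈ _
          rw [← RingHom.comp_apply (algebraMap T T0), ← hδ]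
          exact ⟨algebraMap B0 PB' (algebraMap B B0 b), hπC' _⟩
    have hrU := hrU' s
    have huc : IsUnit (algebraMap C C0 (c ^ k)) := by
      rw [map_pow]; exact (isUnit_algebraMap_of_dvd dvd_rfl).pow k
    obtain ⟨w, hw⟩ := π'.range.mul_mem hrU (hrC (huc.unit⁻¹).1)
    refine ⟨w, ?_⟩
    rw [hw]
    have ek : algebraMap T T0 (cT ^ k) * β (huc.unit⁻¹).1 = 1 := by
      rw [← map_pow, ← RingHom.comp_apply (algebraMap T T0), ← hβ, RingHom.comp_apply, ← map_mul,
        huc.mul_val_inv, map_one]
    have h2 := Ideal.mul_mem_right (β (huc.unit⁻¹).1) _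
      (add_mem hk (Ideal.mem_map_of_mem (algebraMap T T0) hs'))
    convert h2 using 1
    rw [map_sub]
    linear_combination -y * ek
  have hker : RingHom.ker π' ≤ (RingHom.ker π).map μ := by
    let L := (RingHom.ker π).map μ
    let Q' := PB' ⧸ L
    let KQ := (KB.map (algebraMap B0 PB')).map (Ideal.Quotient.mk L)
    haveI : IsAdicComplete KQ Q' := isAdicComplete_quotient L
    haveI : IsHausdorff KQ Q' := (isAdicComplete_quotient (I := KB.map (algebraMap B0 PB')) L).toIsHausdorff
    let mk' := Ideal.Quotient.mk L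
    let eπ := RingHom.quotientKerEquivOfSurjective hπs
    let κ : C0 →+* Q' := (Ideal.quotientMap L μ Ideal.le_comap_map).comp eπ.symm.toRingHom
    have hκ : κ.comp π = mk'.comp μ := RingHom.ext fun p => by
      show Ideal.quotientMap L μ Ideal.le_comap_map (eπ.symm (π p)) = _
      rw [show eπ.symm (π p) = Ideal.Quotient.mk _ p from
        eπ.symm_apply_eq.mpr (RingHom.quotientKerEquivOfSurjective_apply_mk hπs p).symm]
      rfl
    let νB : B →+* Q' := (mk'.comp (algebraMap B0 PB')).comp (algebraMap B B0)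
    let νC : C →+* Q' := κ.comp (algebraMap C C0)
    have hνA : νC.comp (algebraMap A C) = νB.comp (algebraMap A B) := by
      refine RingHom.ext fun a => ?_
      have e1 : algebraMap C C0 (algebraMap A C a) = π (algebraMap R0 PA' (algebraMap A R0 a)) := by
        rw [hπC]; exact (RingHom.congr_fun hα a).symm
      have e2 : μ (algebraMap R0 PA' (algebraMap A R0 a)) = algebraMap B0 PB' (algebraMap B B0 (algebraMap A B a)) := by
        rw [hμC]
        exact congrArg (algebraMap B0 PB') (RingHom.congr_fun hψf a)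
      show κ (algebraMap C C0 (algebraMap A C a)) = mk' (algebraMap B0 PB' (algebraMap B B0 (algebraMap A B a)))
      rw [e1, ← RingHom.comp_apply κ, hκ, RingHom.comp_apply, e2]
    letI : Algebra A Q' := (νC.comp (algebraMap A C)).toAlgebra
    let fC : C →ₐ[A] Q' := { νC with commutes' := fun a => rfl }
    let fB : B →ₐ[A] Q' := { νB with commutes' := fun a => (RingHom.congr_fun hνA a).symm }
    let fU : U →+* Q' := (Algebra.TensorProduct.lift fC fB fun _ _ => Commute.all _ _).toRingHom
    have hJB : (I.map (algebraMap A B)).map νB ≤ KQ :=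
      le_of_eq ((Ideal.map_map _ _).symm.trans (Ideal.map_map _ _).symm)
    have hJC : JC.map νC ≤ KQ :=
      ((map_map_eq hνA).trans (Ideal.map_map _ _).symm).le.trans hJB
    have hfUC : fU.comp (algebraMap C U) = νC := RingHom.ext fun z => by
      show Algebra.TensorProduct.lift fC fB (fun _ _ => Commute.all _ _) (z ⊗ₜ[A] (1 : B)) = νC z
      rw [Algebra.TensorProduct.lift_tmul, map_one, mul_one]
      rfl
    have hfUB : fU.comp (Algebra.TensorProduct.includeRight : B →ₐ[A] U).toRingHom = νB := RingHom.ext fun z => by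
      show Algebra.TensorProduct.lift fC fB (fun _ _ => Commute.all _ _) ((1 : C) ⊗ₜ[A] z) = νB z
      rw [Algebra.TensorProduct.lift_tmul, map_one, one_mul]
      rfl
    obtain ⟨fT, hfT⟩ := exists_lift_completion (R := U)
      (J := JC.map (algebraMap C U)) (Ideal.FG.map (Ideal.FG.map (IsNoetherian.noetherian I) _) _) KQ fU
      ((map_map_eq hfUC).le.trans hJC)
    have hfTC : fT.comp (algebraMap C T) = νC := by
      rw [IsScalarTower.algebraMap_eq C U T, ← RingHom.comp_assoc, hfT, hfUC]
    have hfTB : fT.comp jB = νB := by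
      show fT.comp ((algebraMap U T).comp _) = νB
      rw [← RingHom.comp_assoc, hfT, hfUB]
    obtain ⟨σ, hσ⟩ := exists_lift_awayCompl (J := JT) (h := cT) KQ fT
      ((map_map_eq hfTC).le.trans hJC)
      (by
        show IsUnit (fT (algebraMap C T c))
        rw [← RingHom.comp_apply fT, hfTC]
        exact (isUnit_algebraMap_of_dvd dvd_rfl).map κ)
    have hσC : σ.comp β = κ := by
      refine hom_ext_awayCompl KQ ?_ ?_
      · rw [RingHom.comp_assoc, hβ, ← RingHom.comp_assoc, hσ, hfTC]; exact hJC
      · rw [RingHom.comp_assoc, hβ, ← RingHom.comp_assoc, hσ, hfTC]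
    have hσB : σ.comp δ = mk'.comp (algebraMap B0 PB') := by
      refine hom_ext_awayCompl KQ ?_ ?_
      · rw [RingHom.comp_assoc, hδ, ← RingHom.comp_assoc, hσ, hfTB]; exact hJB
      · rw [RingHom.comp_assoc, hδ, ← RingHom.comp_assoc, hσ, hfTB]
    have hσπ : σ.comp π' = mk' := by
      refine hom_ext_completion fgB KQ ?_ ?_
      · have e : ((σ.comp π').comp ιB).comp (algebraMap B0 PB) = mk'.comp (algebraMap B0 PB') :=
          RingHom.ext fun a => ((congrArg σ ((congrArg π' (IsScalarTower.algebraMap_apply B0 PB PB' a).symm).trans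
            (hπC' a))).trans (RingHom.congr_fun hσB a))
        exact le_of_eq ((map_map_eq e).trans (Ideal.map_map _ _).symm)
      · rw [RingHom.comp_assoc, hπ']
        refine MvPolynomial.ringHom_ext (fun b => ?_) fun i => ?_
        · simp only [RingHom.comp_apply, MvPolynomial.eval₂Hom_C]
          rw [← RingHom.comp_apply σ, hσB, RingHom.comp_apply]
          exact congrArg mk' (IsScalarTower.algebraMap_apply B0 PB PB' b)
        · simp only [RingHom.comp_apply, MvPolynomial.eval₂Hom_X']
          have e1 : x i = π (ιA (MvPolynomial.X i)) := by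
            rw [← RingHom.comp_apply π, hπ, MvPolynomial.eval₂Hom_X']
          have e2 : μ (ιA (MvPolynomial.X i)) = ιB (MvPolynomial.X i) := by
            rw [← RingHom.comp_apply μ, hμX, RingHom.comp_apply, MvPolynomial.map_X]
          rw [← RingHom.comp_apply σ, hσC, e1, ← RingHom.comp_apply κ, hκ, RingHom.comp_apply, e2]
    intro p hp'
    rw [← Ideal.Quotient.eq_zero_iff_mem]
    show mk' p = 0
    rw [← hσπ, RingHom.comp_apply, RingHom.mem_ker.mp hp', map_zero]
  -- the point
  have huc : IsUnit (φC c) := by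
    rw [map_mul]; exact hug.mul hf
  obtain ⟨φS, hφS⟩ := hp0.exists_lift (h := cT) huc
  have hpS := hp0.of_lift hφS
  haveI := hpS.isPrime_ker
  let Q := (RingHom.ker φS).comap π'
  haveI : Q.IsPrime := Ideal.comap_isPrime _ _
  have kC : (φS.comp β).comp α = ρf := hpA.hom_ext (RingHom.ext fun a =>
    (congrArg (fun z => φS (β z)) (RingHom.congr_fun hα a)).trans
      ((congrArg φS (RingHom.congr_fun hβ _)).trans (RingHom.congr_fun hφS _))) hρf
  have kB : φS.comp δ = φBf := hpB.hom_ext (by rw [RingHom.comp_assoc, hδ, ← RingHom.comp_assoc, hφS]) hφBf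
  have hμQ : FlatAt μ Q := by
    haveI : Module.Finite R0 (PA' ⧸ Q.comap μ) := by
      letI := hpA.of_lift hρf
      letI : Algebra R0 (AwayCompl JT hT ⧸ r) := ρf.toAlgebra
      haveI : Module.Finite R0 (AwayCompl JT hT ⧸ r) := hρffin
      have hle : Q.comap μ = RingHom.ker ((φS.comp β).comp π) := by
        show ((RingHom.ker φS).comap π').comap μ = _
        rw [Ideal.comap_comap, RingHom.comap_ker, ← hsq2, RingHom.comp_assoc]
      let F : PA' ⧸ Q.comap μ →ₐ[R0] AwayCompl JT hT ⧸ r :=
        { Ideal.Quotient.lift (Q.comap μ) ((φS.comp β).comp π) (fun a ha => by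
            rw [hle] at ha; exact RingHom.mem_ker.mp ha) with
          commutes' := fun a => by
            show φS (β (π (algebraMap R0 PA' a))) = ρf a
            rw [hπC, ← kC]; rfl }
      have hFinj : Function.Injective F :=
        RingHom.lift_injective_of_ker_le_ideal _ _ hle.ge
      exact Module.Finite.of_injective F.toLinearMap hFinj
    refine flatAt_restrictedPowerSeries hμ Q (RingHom.ker φBf) ?_ h1
    show _ = ((RingHom.ker φS).comap π').comap (algebraMap B0 PB')
    rw [Ideal.comap_comap, RingHom.comap_ker, show π'.comp (algebraMap B0 PB') = δ from RingHom.ext hπC', kB]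
  have h2 : FlatAt β (RingHom.ker φS) := flatAt_quotient hπs hπ's hsq2 hker rfl hμQ
  have hdh : h ∣ c := dvd_mul_of_dvd_left (dvd_mul_left _ _) _
  obtain ⟨κ, hκ⟩ := exists_map_awayCompl (J := JC) (J' := JC) (h := h) (h' := c)
    (RingHom.id C) (Ideal.map_id _).symm hdh
  have hκflat := flat_map_awayCompl _ (RingHom.Flat.id C) (Ideal.map_id _).symm hdh κ hκ
  rw [RingHom.comp_id] at hκ
  haveI : ((RingHom.ker φS).comap β).IsPrime := Ideal.comap_isPrime _ _
  have h4 : FlatAt (β.comp κ) (RingHom.ker φS) := flatAt_comp rfl (flatAt_of_flat κ hκflat _) h2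
  obtain ⟨γ, hγ⟩ := exists_map_awayCompl (J := JT) (J' := JT) (h := hT) (h' := cT)
    (RingHom.id T) (Ideal.map_id _).symm (map_dvd (algebraMap C T) hdh)
  have hγflat := flat_map_awayCompl _ (RingHom.Flat.id T) (Ideal.map_id _).symm
    (map_dvd (algebraMap C T) hdh) γ hγ
  rw [RingHom.comp_id] at hγ
  have k2 : β.comp κ = γ.comp ψh := map_hom_ext (algebraMap C T) (J := JC) (J' := JT) rfl
    (by rw [RingHom.comp_assoc, hκ, hβ])
    (by rw [RingHom.comp_assoc, hψh, ← RingHom.comp_assoc, hγ])
  have k3 : φS.comp γ = φ := hp0.hom_ext (by rw [RingHom.comp_assoc, hγ, hφS]) rfl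
  rw [k2] at h4
  exact flatAt_descend (by rw [RingHom.comap_ker, k3, Ideal.mk_ker]) h4 (flatAt_of_flat γ hγflat _)

end Groth.L05.Rig
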