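import Groth.Agent.L05.Rig.Localize
import Groth.Agent.L05.Bosch.ComplMapFlat
import Groth.Agent.L19.FlatComp
import Mathlib.RingTheory.RingHom.Finite
import Mathlib.RingTheory.RingHom.FiniteType
import Mathlib.RingTheory.RingHom.Flat

/-!
# Maps out of completed localisations, points, and flatness at points
-/

set_option autoImplicit false

universe u

namespace Groth.L05.Rig

section Hom

variable {R : Type u} [CommRing R] [IsNoetherianRing R] {J : Ideal R} {h : R}

theorem exists_approx_pow_awayCompl (n : ℕ) (x : AwayCompl J h) :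
    ∃ s : Localization.Away h, x - algebraMap (Localization.Away h) (AwayCompl J h) s ∈
      (J ^ n).map (algebraMap R (AwayCompl J h)) := by
  obtain ⟨s, hs⟩ := Groth.L05.Bosch.completion_dense (C := Localization.Away h) (IsNoetherian.noetherian J) x n
  rw [Ideal.smul_top_eq_map, Submodule.restrictScalars_mem] at hs
  exact ⟨s, hs⟩

/-- Maps out of a completed localisation are determined on the base. -/
theorem hom_ext_awayCompl {T : Type u} [CommRing T] (K : Ideal T) [IsHausdorff K T]
    {ψ₁ ψ₂ : AwayCompl J h →+* T} (hK : J.map (ψ₁.comp (algebraMap R (AwayCompl J h))) ≤ K)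
    (he : ψ₁.comp (algebraMap R (AwayCompl J h)) = ψ₂.comp (algebraMap R (AwayCompl J h))) : ψ₁ = ψ₂ := by
  have hloc : ψ₁.comp (algebraMap (Localization.Away h) (AwayCompl J h)) =
      ψ₂.comp (algebraMap (Localization.Away h) (AwayCompl J h)) := by
    refine IsLocalization.ringHom_ext (Submonoid.powers h) ?_
    rw [RingHom.comp_assoc, RingHom.comp_assoc, ← IsScalarTower.algebraMap_eq]
    exact he
  refine RingHom.ext fun x => sub_eq_zero.mp (IsHausdorff.haus (inferInstance : IsHausdorff K T) _ fun n => ?_)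
  obtain ⟨s, hs⟩ := exists_approx_pow_awayCompl n x
  rw [SModEq.zero, smul_eq_mul, Ideal.mul_top]
  have hmem : ∀ ψ : AwayCompl J h →+* T,
      J.map (ψ.comp (algebraMap R (AwayCompl J h))) ≤ K →
      ψ x - ψ (algebraMap (Localization.Away h) (AwayCompl J h) s) ∈ K ^ n := fun ψ hψ => by
    rw [← map_sub]
    have h1 := Ideal.mem_map_of_mem ψ hs
    rw [Ideal.map_map, Ideal.map_pow] at h1
    exact pow_le_pow_left' hψ n h1
  have h1 := hmem ψ₁ hK
  have h2 := hmem ψ₂ (he ▸ hK)
  have e := RingHom.congr_fun hloc s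
  simp only [RingHom.comp_apply] at e
  rw [← e] at h2
  simpa using sub_mem h1 h2

/-- Universal property of the completed localisation. -/
theorem exists_lift_awayCompl {T : Type u} [CommRing T] (K : Ideal T) [IsAdicComplete K T] (φ : R →+* T)
    (hK : J.map φ ≤ K) (hu : IsUnit (φ h)) :
    ∃ ψ : AwayCompl J h →+* T, ψ.comp (algebraMap R (AwayCompl J h)) = φ := by
  letI : Algebra R T := φ.toAlgebra
  have hu' : ∀ y : Submonoid.powers h, IsUnit (Algebra.ofId R T y.1) := by
    rintro ⟨y, k, rfl⟩
    rw [map_pow]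
    exact hu.pow k
  obtain ⟨Ψ, hΨ, -⟩ := Chart.existsUnique_completion_lift (R := R)
    (Ideal.FG.map (IsNoetherian.noetherian J) (algebraMap R (Localization.Away h))) K
    (IsLocalization.liftAlgHom (S := Localization.Away h) hu') (by
      rw [Ideal.map_le_iff_le_comap, Ideal.map_le_iff_le_comap]
      intro x hx
      rw [Ideal.mem_comap, Ideal.mem_comap, AlgHom.commutes]
      exact hK (Ideal.mem_map_of_mem φ hx))
  exact ⟨Ψ.toRingHom, RingHom.ext fun a => Ψ.commutes a⟩

theorem isUnit_algebraMap_of_dvd {x : R} (hx : x ∣ h) : IsUnit (algebraMap R (AwayCompl J h) x) := by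
  refine isUnit_of_dvd_unit (map_dvd _ hx) ?_
  rw [IsScalarTower.algebraMap_apply R (Localization.Away h) (AwayCompl J h)]
  exact (IsLocalization.Away.algebraMap_isUnit h).map _

theorem isHausdorff_awayCompl : IsHausdorff (J.map (algebraMap R (AwayCompl J h))) (AwayCompl J h) :=
  (isAdicComplete_awayCompl J h).toIsHausdorff

variable {R' : Type u} [CommRing R'] [IsNoetherianRing R'] {J' : Ideal R'} {h' : R'}

theorem exists_map_awayCompl (g : R →+* R') (hJ : J' = J.map g) (hd : g h ∣ h') :
    ∃ ψ : AwayCompl J h →+* AwayCompl J' h',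
      ψ.comp (algebraMap R (AwayCompl J h)) = (algebraMap R' (AwayCompl J' h')).comp g := by
  haveI := isAdicComplete_awayCompl J' h'
  have hu : IsUnit (((algebraMap R' (AwayCompl J' h')).comp g) h) := by
    rw [RingHom.comp_apply]
    exact isUnit_algebraMap_of_dvd (J := J') hd
  exact exists_lift_awayCompl (J'.map (algebraMap R' (AwayCompl J' h'))) ((algebraMap R' (AwayCompl J' h')).comp g)
    (le_of_eq ((Ideal.map_map _ _).symm.trans (congrArg _ hJ.symm))) hu

theorem map_hom_ext (g : R →+* R') (hJ : J' = J.map g) {ψ₁ ψ₂ : AwayCompl J h →+* AwayCompl J' h'}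
    (h₁ : ψ₁.comp (algebraMap R (AwayCompl J h)) = (algebraMap R' (AwayCompl J' h')).comp g)
    (h₂ : ψ₂.comp (algebraMap R (AwayCompl J h)) = (algebraMap R' (AwayCompl J' h')).comp g) : ψ₁ = ψ₂ := by
  haveI := isHausdorff_awayCompl (J := J') (h := h')
  refine hom_ext_awayCompl (J'.map (algebraMap R' (AwayCompl J' h'))) ?_ (h₁.trans h₂.symm)
  exact le_of_eq ((congrArg (fun φ => Ideal.map φ J) h₁).trans
    ((Ideal.map_map _ _).symm.trans (congrArg _ hJ.symm)))

/-- The map of completed localisations induced by a flat map is flat. -/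
theorem flat_map_awayCompl (g : R →+* R') (hg : g.Flat) (hJ : J' = J.map g) (hd : g h ∣ h')
    (ψ : AwayCompl J h →+* AwayCompl J' h')
    (hψ : ψ.comp (algebraMap R (AwayCompl J h)) = (algebraMap R' (AwayCompl J' h')).comp g) : ψ.Flat := by
  let gl : Localization.Away h →+* Localization.Away h' :=
    IsLocalization.Away.lift h (g := (algebraMap R' (Localization.Away h')).comp g)
      (isUnit_of_dvd_unit (map_dvd (algebraMap R' (Localization.Away h')) hd) (IsLocalization.Away.algebraMap_isUnit h'))
  have hgl : gl.comp (algebraMap R (Localization.Away h)) = (algebraMap R' (Localization.Away h')).comp g :=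
    IsLocalization.Away.lift_comp h _
  haveI : IsNoetherianRing (Localization.Away h) :=
    IsLocalization.isNoetherianRing (Submonoid.powers h) _ inferInstance
  haveI : IsNoetherianRing (Localization.Away h') :=
    IsLocalization.isNoetherianRing (Submonoid.powers h') _ inferInstance
  have hflat : gl.Flat := by
    letI := gl.toAlgebra
    letI : Algebra R (Localization.Away h') := ((algebraMap R' (Localization.Away h')).comp g).toAlgebra
    haveI : IsScalarTower R (Localization.Away h) (Localization.Away h') :=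
      IsScalarTower.of_algebraMap_eq' hgl.symm
    haveI : Module.Flat R (Localization.Away h') := by
      have hl : (algebraMap R' (Localization.Away h')).Flat :=
        RingHom.flat_algebraMap_iff.mpr (IsLocalization.flat _ (Submonoid.powers h'))
      exact hg.comp hl
    show Module.Flat (Localization.Away h) (Localization.Away h')
    exact (Module.flat_iff_of_isLocalization (Localization.Away h) (Submonoid.powers h)
      (Localization.Away h')).mpr inferInstance
  have hK : J'.map (algebraMap R' (Localization.Away h')) = (J.map (algebraMap R (Localization.Away h))).map gl := by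
    rw [hJ, Ideal.map_map, Ideal.map_map, hgl]
  have e : ψ = FSch.complMap (J.map (algebraMap R (Localization.Away h)))
      (J'.map (algebraMap R' (Localization.Away h'))) gl hK.ge := by
    refine map_hom_ext g hJ hψ (RingHom.ext fun a => ?_)
    rw [RingHom.comp_apply, RingHom.comp_apply, IsScalarTower.algebraMap_apply R (Localization.Away h) (AwayCompl J h),
      Groth.L05.Bosch.complMap_algebraMap, ← RingHom.comp_apply gl, hgl, RingHom.comp_apply,
      ← IsScalarTower.algebraMap_apply]
  rw [e]
  exact Groth.L05.Bosch.flat_complMap _ gl hflat _ hK _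

theorem eq_of_comap_eq_awayCompl {Q₁ Q₂ : Ideal (AwayCompl J h)} [Q₁.IsPrime] [Q₂.IsPrime]
    (h₁ : J.map (algebraMap R (AwayCompl J h)) ≤ Q₁) (h₂ : J.map (algebraMap R (AwayCompl J h)) ≤ Q₂)
    (hc : Q₁.comap (algebraMap R (AwayCompl J h)) = Q₂.comap (algebraMap R (AwayCompl J h))) : Q₁ = Q₂ := by
  ext x
  obtain ⟨a, k, hk⟩ := exists_approx_awayCompl J h x
  have hu : IsUnit (algebraMap R (AwayCompl J h) (h ^ k)) := by
    rw [map_pow]; exact (isUnit_algebraMap_of_dvd dvd_rfl).pow k
  have key : ∀ Q : Ideal (AwayCompl J h), J.map (algebraMap R (AwayCompl J h)) ≤ Q →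
      (x ∈ Q ↔ a ∈ Q.comap (algebraMap R (AwayCompl J h))) := fun Q hQ => by
    rw [Ideal.mem_comap, ← Ideal.mul_unit_mem_iff_mem Q hu]
    exact ⟨fun hx => by simpa using sub_mem hx (hQ hk), fun ha => by simpa using add_mem (hQ hk) ha⟩
  rw [key Q₁ h₁, key Q₂ h₂, hc]

end Hom

section Pt

/-- A complete one-dimensional domain receiving a map: a point of the rigid space. -/
structure IsPt {R : Type u} [CommRing R] (J : Ideal R) {D : Type u} [CommRing D] (φ : R →+* D) : Prop where
  isDomain : IsDomain D
  isNoetherianRing : IsNoetherianRing D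
  dim : ringKrullDim D = 1
  complete : IsAdicComplete (J.map φ) D
  ne_bot : J.map φ ≠ ⊥

variable {R R' D : Type u} [CommRing R] [CommRing R'] [CommRing D] {J : Ideal R} {φ : R →+* D}

theorem IsPt.of_comp {J' : Ideal R'} {ψ : R' →+* D} (hp : IsPt J φ) (g : R →+* R') (hJ : J' = J.map g)
    (hg : ψ.comp g = φ) : IsPt J' ψ := by
  have e : J'.map ψ = J.map φ := by rw [hJ, Ideal.map_map, hg]
  exact ⟨hp.isDomain, hp.isNoetherianRing, hp.dim, by rw [e]; exact hp.complete, by rw [e]; exact hp.ne_bot⟩

theorem IsPt.comp {I : Ideal R'} {g : R' →+* R} (hp : IsPt J φ) (hJ : J = I.map g) : IsPt I (φ.comp g) := by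
  have e : I.map (φ.comp g) = J.map φ := by rw [hJ, Ideal.map_map]
  exact ⟨hp.isDomain, hp.isNoetherianRing, hp.dim, by rw [e]; exact hp.complete, by rw [e]; exact hp.ne_bot⟩

theorem IsPt.of_rigClosed [IsNoetherianRing R] [IsAdicComplete J R] {q : PrimeSpectrum R} (hq : RigClosed J q) :
    IsPt J (Ideal.Quotient.mk q.asIdeal) :=
  ⟨inferInstance, inferInstance, (dim_eq_one_of_rigClosed hq).1, isAdicComplete_quotient q.asIdeal, fun e =>
    hq.1 (by rw [Ideal.map_eq_bot_iff_le_ker, Ideal.mk_ker] at e; exact e)⟩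

theorem IsPt.isPrime_ker (hp : IsPt J φ) : (RingHom.ker φ).IsPrime :=
  haveI := hp.isDomain
  RingHom.ker_isPrime _

theorem IsPt.rigClosed [IsNoetherianRing R] [IsAdicComplete J R] (hp : IsPt J φ) (hfin : φ.Finite) :
    RigClosed J ⟨RingHom.ker φ, hp.isPrime_ker⟩ := by
  haveI := hp.isDomain
  letI := φ.toAlgebra
  haveI : Module.Finite R D := hfin
  exact rigClosed_ker_of_finite (D := D) hp.dim fun h => hp.ne_bot (Ideal.map_eq_bot_iff_le_ker φ |>.mpr h)

theorem IsPt.exists_lift [IsNoetherianRing R] (hp : IsPt J φ) {h : R} (hu : IsUnit (φ h)) :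
    ∃ ψ : AwayCompl J h →+* D, ψ.comp (algebraMap R (AwayCompl J h)) = φ :=
  haveI := hp.complete
  exists_lift_awayCompl (J.map φ) φ le_rfl hu

theorem IsPt.hom_ext [IsNoetherianRing R] (hp : IsPt J φ) {h : R} {ψ₁ ψ₂ : AwayCompl J h →+* D}
    (h₁ : ψ₁.comp (algebraMap R (AwayCompl J h)) = φ) (h₂ : ψ₂.comp (algebraMap R (AwayCompl J h)) = φ) :
    ψ₁ = ψ₂ :=
  haveI := hp.complete.toIsHausdorff
  hom_ext_awayCompl (J.map φ) (by rw [h₁]) (h₁.trans h₂.symm)

theorem IsPt.of_lift {h : R} (hp : IsPt J φ) {ψ : AwayCompl J h →+* D}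
    (hψ : ψ.comp (algebraMap R (AwayCompl J h)) = φ) :
    IsPt (J.map (algebraMap R (AwayCompl J h))) ψ :=
  hp.of_comp _ rfl hψ

end Pt

section FiniteType

variable {A : Type u} [CommRing A] {I : Ideal A}

/-- `R` is of finite type modulo `I` over `A`. -/
abbrev FTMod {A R : Type u} [CommRing A] [CommRing R] (I : Ideal A) (g : A →+* R) : Prop :=
  ((Ideal.Quotient.mk (I.map g)).comp g).FiniteType

theorem ftMod_algebraMap {B : Type u} [CommRing B] [Algebra A B]
    (h : Algebra.FiniteType A (B ⧸ I.map (algebraMap A B))) : FTMod I (algebraMap A B) := by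
  show ((Ideal.Quotient.mk (I.map (algebraMap A B))).comp (algebraMap A B)).FiniteType
  rw [show (Ideal.Quotient.mk (I.map (algebraMap A B))).comp (algebraMap A B) =
    algebraMap A (B ⧸ I.map (algebraMap A B)) from rfl, RingHom.finiteType_algebraMap]
  exact h

theorem FTMod.comp_finite {R D : Type u} [CommRing R] [CommRing D] {g : A →+* R} (h : FTMod I g)
    {ψ : R →+* D} (hψ : ψ.Finite) : FTMod I (ψ.comp g) := by
  let q : R ⧸ I.map g →+* D ⧸ I.map (ψ.comp g) :=
    Ideal.quotientMap _ ψ (by rw [← Ideal.map_map]; exact Ideal.le_comap_map)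
  have hq : q.Finite := by
    refine RingHom.Finite.of_comp_finite (f := Ideal.Quotient.mk (I.map g)) ?_
    have e : q.comp (Ideal.Quotient.mk (I.map g)) = (Ideal.Quotient.mk _).comp ψ := RingHom.ext fun x => rfl
    rw [e]
    exact (RingHom.Finite.of_surjective _ Ideal.Quotient.mk_surjective).comp hψ
  exact hq.finiteType.comp h

theorem FTMod.awayCompl {R : Type u} [CommRing R] [IsNoetherianRing R] {g : A →+* R} (hg : FTMod I g)
    {J : Ideal R} (hJ : J = I.map g) (h : R) : FTMod I ((algebraMap R (AwayCompl J h)).comp g) := by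
  subst hJ
  let K := I.map ((algebraMap R (AwayCompl (I.map g) h)).comp g)
  have hK : K = (I.map g).map (algebraMap R (AwayCompl (I.map g) h)) := (Ideal.map_map _ _).symm
  let q0 : R ⧸ I.map g →+* AwayCompl (I.map g) h ⧸ K :=
    Ideal.quotientMap _ (algebraMap R (AwayCompl (I.map g) h)) (by rw [hK]; exact Ideal.le_comap_map)
  have hu := (isUnit_algebraMap_of_dvd (J := I.map g) (dvd_refl h)).map (Ideal.Quotient.mk K)
  let e : Polynomial (R ⧸ I.map g) →+* AwayCompl (I.map g) h ⧸ K :=
    Polynomial.eval₂RingHom q0 (hu.unit⁻¹).1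
  have he : Function.Surjective e := by
    intro y
    obtain ⟨x, rfl⟩ := Ideal.Quotient.mk_surjective y
    obtain ⟨b, k, hk⟩ := exists_approx_awayCompl (I.map g) h x
    refine ⟨Polynomial.C (Ideal.Quotient.mk _ b) * Polynomial.X ^ k, ?_⟩
    rw [← hK, ← Ideal.Quotient.eq, map_mul, map_pow, map_pow] at hk
    simp only [e, Polynomial.coe_eval₂RingHom, Polynomial.eval₂_mul, Polynomial.eval₂_C, Polynomial.eval₂_X_pow]
    show Ideal.Quotient.mk K (algebraMap R _ b) * _ = _
    rw [← hk, mul_assoc, ← mul_pow, hu.mul_val_inv, one_pow, mul_one]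
  have hC : (Polynomial.C : R ⧸ I.map g →+* Polynomial (R ⧸ I.map g)).FiniteType := by
    rw [← Polynomial.algebraMap_eq, RingHom.finiteType_algebraMap]
    infer_instance
  have e1 : (Ideal.Quotient.mk K).comp ((algebraMap R (AwayCompl (I.map g) h)).comp g) =
      e.comp (Polynomial.C.comp ((Ideal.Quotient.mk (I.map g)).comp g)) := by
    refine RingHom.ext fun a => ?_
    simp [e, q0]
  show ((Ideal.Quotient.mk K).comp _).FiniteType
  rw [e1]
  exact (RingHom.FiniteType.of_surjective e he).comp (hC.comp hg)

end FiniteType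

section Choice

/-- Choose a localisation over which a point becomes finite. -/
theorem exists_away_finite {A D : Type u} [CommRing A] [IsNoetherianRing A] [CommRing D] {I : Ideal A}
    {φ : A →+* D} (hp : IsPt I φ) (hft : FTMod I φ) :
    ∃ f : A, IsUnit (φ f) ∧ ∀ f' : A, f ∣ f' → ∀ ρ : AwayCompl I f' →+* D,
      ρ.comp (algebraMap A (AwayCompl I f')) = φ → ρ.Finite := by
  classical
  letI : Algebra A D := φ.toAlgebra
  haveI := hp.isDomain
  haveI := hp.isNoetherianRing
  let J := I.map (algebraMap A D)
  haveI hJc : IsAdicComplete J D := hp.complete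
  haveI : Ring.KrullDimLE 1 D := Ring.krullDimLE_iff.mpr (le_of_eq hp.dim)
  have hm := isMaximal_eq_radical (J := J) hp.ne_bot
  haveI : Algebra.FiniteType A (D ⧸ J) := by
    rw [← RingHom.finiteType_algebraMap]
    exact hft
  obtain ⟨M, hM⟩ := Ideal.exists_maximal D
  haveI := hM
  have hMJ : M = J.radical := hm M hM
  letI := Ideal.Quotient.field M
  let π : D ⧸ J →ₐ[A] D ⧸ M := Ideal.Quotient.factorₐ A (hMJ ▸ Ideal.le_radical)
  haveI : Algebra.FiniteType A (D ⧸ M) :=
    Algebra.FiniteType.of_surjective π (Ideal.Quotient.factor_surjective (hMJ ▸ Ideal.le_radical))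
  obtain ⟨s, hs⟩ := Algebra.FiniteType.out (R := A) (A := D ⧸ J)
  choose P hP0 hPx using fun y : D ⧸ J => exists_poly_of_finiteType_field (A := A) (D ⧸ M) (π y)
  have hf0 : algebraMap A (D ⧸ M) (∏ y ∈ s, (P y).leadingCoeff) ≠ 0 := by
    rw [map_prod]; exact Finset.prod_ne_zero_iff.mpr fun y _ => hP0 y
  refine ⟨∏ y ∈ s, (P y).leadingCoeff, ?_, fun f hf ρ hρ => ?_⟩
  · by_contra hnu
    obtain ⟨N, hN, hfN⟩ := exists_max_ideal_of_mem_nonunits hnu
    apply hf0
    rw [IsScalarTower.algebraMap_apply A D (D ⧸ M)]
    exact Ideal.Quotient.eq_zero_iff_mem.mpr (hMJ ▸ (hm N hN) ▸ hfN)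
  · haveI := isNoetherianRing_awayCompl I f
    haveI := isAdicComplete_awayCompl I f
    letI : Algebra (AwayCompl I f) D := ρ.toAlgebra
    haveI : IsScalarTower A (AwayCompl I f) D := IsScalarTower.of_algebraMap_eq' hρ.symm
    haveI : Nontrivial (AwayCompl I f) := RingHom.domain_nontrivial ρ
    have hint : ∀ y ∈ s, IsIntegral (AwayCompl I f) (y : D ⧸ J) := by
      intro y hy
      have hu : IsUnit (algebraMap A (AwayCompl I f) (P y).leadingCoeff) :=
        isUnit_algebraMap_of_dvd ((Finset.dvd_prod_of_mem (fun y => (P y).leadingCoeff) hy).trans hf)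
      obtain ⟨d, hd⟩ := Ideal.Quotient.mk_surjective (Polynomial.aeval y (P y))
      have hd0 : d ∈ J.radical := by
        rw [← hMJ, ← Ideal.Quotient.eq_zero_iff_mem]
        have := hPx y
        rw [Polynomial.aeval_algHom_apply, ← hd] at this
        exact this
      obtain ⟨N, hN⟩ := hd0
      let Q := Polynomial.C (hu.unit⁻¹ : (AwayCompl I f)ˣ).1 * (P y).map (algebraMap A (AwayCompl I f))
      have hQ : Q.Monic := by
        apply Polynomial.monic_C_mul_of_mul_leadingCoeff_eq_one
        rw [Polynomial.leadingCoeff_map_of_leadingCoeff_ne_zero _ hu.ne_zero]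
        exact hu.val_inv_mul
      refine ⟨Q ^ N, hQ.pow N, ?_⟩
      rw [← Polynomial.aeval_def, map_pow, map_mul, Polynomial.aeval_map_algebraMap, mul_pow, ← hd,
        ← map_pow (Ideal.Quotient.mk J), Ideal.Quotient.eq_zero_iff_mem.mpr hN, mul_zero]
    haveI : Algebra.FiniteType (AwayCompl I f) (D ⧸ J) :=
      Algebra.FiniteType.of_restrictScalars_finiteType A _ _
    haveI : Algebra.IsIntegral (AwayCompl I f) (D ⧸ J) := ⟨fun z => by
      have hz : z ∈ Algebra.adjoin A (s : Set (D ⧸ J)) := hs ▸ Algebra.mem_top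
      induction hz using Algebra.adjoin_induction with
      | mem x hx => exact hint x hx
      | algebraMap a =>
        rw [IsScalarTower.algebraMap_apply A (AwayCompl I f) (D ⧸ J)]; exact isIntegral_algebraMap
      | add x y _ _ hx hy => exact hx.add hy
      | mul x y _ _ hx hy => exact hx.mul hy⟩
    have eJ' : (I.map (algebraMap A (AwayCompl I f))).map (algebraMap (AwayCompl I f) D) = J := by
      rw [Ideal.map_map, ← IsScalarTower.algebraMap_eq]
    haveI : Module.Finite (AwayCompl I f) (D ⧸ J) := Algebra.IsIntegral.finite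
    haveI : Module.Finite (AwayCompl I f)
        (D ⧸ (I.map (algebraMap A (AwayCompl I f))).map (algebraMap (AwayCompl I f) D)) :=
      Module.Finite.equiv (Ideal.quotientEquivAlgOfEq (AwayCompl I f) eJ'.symm).toLinearEquiv
    haveI : IsAdicComplete ((I.map (algebraMap A (AwayCompl I f))).map (algebraMap (AwayCompl I f) D)) D := by
      rw [eJ']; exact hJc
    exact finite_of_finite_quotient (I := I.map (algebraMap A (AwayCompl I f))) D

end Choice

section FlatAt

/-- Flatness of a ring map at a prime of the target. -/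
abbrev FlatAt {R S : Type u} [CommRing R] [CommRing S] (g : R →+* S) (Q : Ideal S) [Q.IsPrime] : Prop :=
  ((algebraMap S (Localization.AtPrime Q)).comp g).Flat

variable {R S T : Type u} [CommRing R] [CommRing S] [CommRing T]

theorem flatAt_of_flat (g : R →+* S) (hg : g.Flat) (Q : Ideal S) [Q.IsPrime] : FlatAt g Q :=
  hg.comp (RingHom.flat_algebraMap_iff.mpr (IsLocalization.flat _ Q.primeCompl))

theorem flat_localRingHom {k : S →+* T} {Q : Ideal T} [Q.IsPrime] {q : Ideal S} [q.IsPrime]
    (hq : q = Q.comap k) (hk : FlatAt k Q) : (Localization.localRingHom q Q k hq).Flat := by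
  letI := (Localization.localRingHom q Q k hq).toAlgebra
  letI : Algebra S (Localization.AtPrime Q) := ((algebraMap T (Localization.AtPrime Q)).comp k).toAlgebra
  haveI : IsScalarTower S (Localization.AtPrime q) (Localization.AtPrime Q) :=
    IsScalarTower.of_algebraMap_eq fun x => (Localization.localRingHom_to_map q Q k hq x).symm
  haveI : Module.Flat S (Localization.AtPrime Q) := hk
  show Module.Flat (Localization.AtPrime q) (Localization.AtPrime Q)
  exact (Module.flat_iff_of_isLocalization (Localization.AtPrime q) q.primeCompl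
    (Localization.AtPrime Q)).mpr inferInstance

theorem flatAt_comp {g : R →+* S} {k : S →+* T} {Q : Ideal T} [Q.IsPrime] {q : Ideal S} [q.IsPrime]
    (hq : q = Q.comap k) (hg : FlatAt g q) (hk : FlatAt k Q) : FlatAt (k.comp g) Q := by
  have e : (algebraMap T (Localization.AtPrime Q)).comp (k.comp g) =
      (Localization.localRingHom q Q k hq).comp ((algebraMap S (Localization.AtPrime q)).comp g) :=
    RingHom.ext fun x => (Localization.localRingHom_to_map q Q k hq (g x)).symm
  show RingHom.Flat _
  rw [e]
  exact RingHom.Flat.comp hg (flat_localRingHom hq hk)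

theorem flatAt_descend {g : R →+* S} {k : S →+* T} {Q : Ideal T} [Q.IsPrime] {q : Ideal S} [q.IsPrime]
    (hq : q = Q.comap k) (hgk : FlatAt (k.comp g) Q) (hk : FlatAt k Q) : FlatAt g q := by
  letI := (Localization.localRingHom q Q k hq).toAlgebra
  letI : Algebra R (Localization.AtPrime q) := ((algebraMap S (Localization.AtPrime q)).comp g).toAlgebra
  letI : Algebra R (Localization.AtPrime Q) :=
    ((algebraMap T (Localization.AtPrime Q)).comp (k.comp g)).toAlgebra
  haveI : IsScalarTower R (Localization.AtPrime q) (Localization.AtPrime Q) :=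
    IsScalarTower.of_algebraMap_eq fun x => (Localization.localRingHom_to_map q Q k hq (g x)).symm
  haveI : IsLocalHom (algebraMap (Localization.AtPrime q) (Localization.AtPrime Q)) :=
    Localization.isLocalHom_localRingHom q Q k hq
  haveI : Module.Flat (Localization.AtPrime q) (Localization.AtPrime Q) := flat_localRingHom hq hk
  haveI : Module.FaithfullyFlat (Localization.AtPrime q) (Localization.AtPrime Q) :=
    Module.FaithfullyFlat.of_flat_of_isLocalHom
  haveI : Module.Flat R (Localization.AtPrime Q) := hgk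
  show Module.Flat R (Localization.AtPrime q)
  exact Groth.L19.flat_of_flat_of_faithfullyFlat R (Localization.AtPrime q) (Localization.AtPrime Q)

theorem flatAt_of_map_eq [IsNoetherianRing S] [IsNoetherianRing T] {a : R →+* S} {b : S →+* T}
    {Q : Ideal T} [Q.IsPrime] {q : Ideal S} [q.IsPrime] (hq : q = Q.comap b) (p : Ideal R)
    (hp : (p.map a).map (algebraMap S (Localization.AtPrime q)) =
      IsLocalRing.maximalIdeal (Localization.AtPrime q))
    (h : FlatAt (b.comp a) Q) : FlatAt b Q := by
  letI : Algebra R (Localization.AtPrime q) := ((algebraMap S (Localization.AtPrime q)).comp a).toAlgebra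
  letI := (Localization.localRingHom q Q b hq).toAlgebra
  letI : Algebra R (Localization.AtPrime Q) :=
    ((algebraMap T (Localization.AtPrime Q)).comp (b.comp a)).toAlgebra
  haveI : IsScalarTower R (Localization.AtPrime q) (Localization.AtPrime Q) :=
    IsScalarTower.of_algebraMap_eq fun x => (Localization.localRingHom_to_map q Q b hq (a x)).symm
  haveI : IsLocalHom (algebraMap (Localization.AtPrime q) (Localization.AtPrime Q)) :=
    Localization.isLocalHom_localRingHom q Q b hq
  haveI : IsNoetherianRing (Localization.AtPrime q) :=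
    IsLocalization.isNoetherianRing q.primeCompl _ inferInstance
  haveI : IsNoetherianRing (Localization.AtPrime Q) :=
    IsLocalization.isNoetherianRing Q.primeCompl _ inferInstance
  haveI : Module.Flat R (Localization.AtPrime Q) := h
  haveI hflat : Module.Flat (Localization.AtPrime q) (Localization.AtPrime Q) := flat_of_map_eq p (by
    rw [← hp, Ideal.map_map]
    rfl)
  have e : (algebraMap T (Localization.AtPrime Q)).comp b =
      (algebraMap (Localization.AtPrime q) (Localization.AtPrime Q)).comp (algebraMap S (Localization.AtPrime q)) :=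
    RingHom.ext fun x => (Localization.localRingHom_to_map q Q b hq x).symm
  show RingHom.Flat _
  rw [e]
  exact (RingHom.flat_algebraMap_iff.mpr (IsLocalization.flat _ q.primeCompl)).comp
    (RingHom.flat_algebraMap_iff.mpr hflat)

end FlatAt

end Groth.L05.Rig
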