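import Groth.Agent.L05.Rig.Closed
import Groth.Agent.L05.Bosch.Complete
import Groth.Agent.L20.LocalCriterion
import Mathlib.RingTheory.Jacobson.Ring
import Mathlib.RingTheory.Localization.Integral
import Mathlib.RingTheory.Localization.BaseChange
import Mathlib.RingTheory.Flat.Localization
import Mathlib.RingTheory.AdicCompletion.AsTensorProduct
import Mathlib.RingTheory.Flat.Stability

/-!
# Rig-closed points and completed localisations
-/

set_option autoImplicit false

universe u

namespace Groth.L05.Rig

open TensorProduct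

section Away

variable {A : Type u} [CommRing A] (I : Ideal A) (f : A)

/-- The completion of the localisation away from `f`. -/
abbrev AwayCompl : Type u :=
  AdicCompletion (I.map (algebraMap A (Localization.Away f))) (Localization.Away f)

variable [IsNoetherianRing A]

theorem isNoetherianRing_awayCompl : IsNoetherianRing (AwayCompl I f) :=
  haveI : IsNoetherianRing (Localization.Away f) :=
    IsLocalization.isNoetherianRing (Submonoid.powers f) _ inferInstance
  L01.AdicNoeth.isNoetherianRing_adicCompletion _ (Ideal.FG.map (IsNoetherian.noetherian I) _)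

theorem isAdicComplete_awayCompl :
    IsAdicComplete (I.map (algebraMap A (AwayCompl I f))) (AwayCompl I f) :=
  (IsAdicComplete.map_algebraMap_iff (S := AwayCompl I f) I _).mpr
    (Groth.L05.Bosch.completion_isAdicComplete I _ (IsNoetherian.noetherian I))

theorem exists_approx_awayCompl (x : AwayCompl I f) : ∃ (a : A) (k : ℕ),
    x * algebraMap A (AwayCompl I f) (f ^ k) - algebraMap A (AwayCompl I f) a ∈
      I.map (algebraMap A (AwayCompl I f)) := by
  obtain ⟨s, hs⟩ := Groth.L05.Bosch.completion_dense (C := Localization.Away f) (IsNoetherian.noetherian I) x 1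
  rw [pow_one, Ideal.smul_top_eq_map, Submodule.restrictScalars_mem] at hs
  obtain ⟨⟨a, ⟨b, k, rfl⟩⟩, hk⟩ := IsLocalization.surj (Submonoid.powers f) s
  refine ⟨a, k, ?_⟩
  have e := Ideal.mul_mem_right (algebraMap A (AwayCompl I f) (f ^ k)) _ hs
  rw [sub_mul, IsScalarTower.algebraMap_apply A (Localization.Away f) (AwayCompl I f) (f ^ k),
    ← map_mul, hk, ← IsScalarTower.algebraMap_apply] at e
  rw [IsScalarTower.algebraMap_apply A (Localization.Away f) (AwayCompl I f) (f ^ k)]
  exact e

variable [IsAdicComplete I A]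

theorem bijective_quotientMap_awayCompl (P : Ideal A) (hf : IsUnit (Ideal.Quotient.mk P f)) :
    Function.Bijective (Ideal.quotientMap (P.map (algebraMap A (AwayCompl I f)))
      (algebraMap A (AwayCompl I f)) Ideal.le_comap_map) := by
  haveI := isNoetherianRing_awayCompl I f
  haveI := isAdicComplete_awayCompl I f
  haveI hAP := isAdicComplete_quotient (I := I) P
  have hu : ∀ y : Submonoid.powers f, IsUnit (Algebra.ofId A (A ⧸ P) y.1) := by
    rintro ⟨y, k, rfl⟩
    rw [map_pow]
    exact hf.pow k
  obtain ⟨χ, hχ, -⟩ := Chart.existsUnique_completion_lift (R := A)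
    (Ideal.FG.map (IsNoetherian.noetherian I) (algebraMap A (Localization.Away f)))
    (I.map (Ideal.Quotient.mk P))
    (IsLocalization.liftAlgHom (S := Localization.Away f) hu) (by
      rw [Ideal.map_le_iff_le_comap, Ideal.map_le_iff_le_comap]
      intro x hx
      rw [Ideal.mem_comap, Ideal.mem_comap, AlgHom.commutes]
      exact Ideal.mem_map_of_mem _ hx)
  constructor
  · refine (injective_iff_map_eq_zero _).mpr fun x hx => ?_
    obtain ⟨a, rfl⟩ := Ideal.Quotient.mk_surjective x
    rw [Ideal.quotientMap_mk, Ideal.Quotient.eq_zero_iff_mem] at hx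
    have h : P.map (algebraMap A (AwayCompl I f)) ≤ RingHom.ker χ := by
      refine Ideal.map_le_iff_le_comap.mpr fun y hy => ?_
      rw [Ideal.mem_comap, RingHom.mem_ker, AlgHom.commutes]
      exact Ideal.Quotient.eq_zero_iff_mem.mpr hy
    have := h hx
    rwa [RingHom.mem_ker, AlgHom.commutes] at this
  · let P' := P.map (algebraMap A (AwayCompl I f))
    let Q := AwayCompl I f ⧸ P'
    have eI : (I.map (algebraMap A (AwayCompl I f))).map (Ideal.Quotient.mk P') = I.map (algebraMap A Q) := by
      rw [Ideal.map_map]; rfl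
    haveI : IsHausdorff I Q := IsHausdorff.map_algebraMap_iff.mp (by
      rw [← eI]
      exact (isAdicComplete_quotient (I := I.map (algebraMap A (AwayCompl I f))) P').toIsHausdorff)
    obtain ⟨g, hg⟩ := Ideal.Quotient.mk_surjective (hf.unit⁻¹ : (A ⧸ P)ˣ).1
    have hfg : algebraMap A Q f * algebraMap A Q g = 1 := by
      have h1 : f * g - 1 ∈ P := by
        rw [← Ideal.Quotient.eq, map_mul, map_one, hg]
        exact hf.mul_val_inv
      have h2 : algebraMap A Q (f * g - 1) = 0 :=
        Ideal.Quotient.eq_zero_iff_mem.mpr (Ideal.mem_map_of_mem _ h1)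
      rwa [map_sub, map_mul, map_one, sub_eq_zero] at h2
    have hsurj : Function.Surjective (Algebra.linearMap A Q) := by
      refine surjective_of_mkQ_comp_surjective (I := I) (f := Algebra.linearMap A Q) fun z => ?_
      obtain ⟨y, rfl⟩ := Submodule.Quotient.mk_surjective _ z
      obtain ⟨x, rfl⟩ := Ideal.Quotient.mk_surjective y
      obtain ⟨a, k, hk⟩ := exists_approx_awayCompl I f x
      refine ⟨a * g ^ k, (Submodule.Quotient.eq _).mpr ?_⟩
      rw [Ideal.smul_top_eq_map, Submodule.restrictScalars_mem, ← eI]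
      have h1 := Ideal.mul_mem_right (algebraMap A Q g ^ k) _ (Ideal.mem_map_of_mem (Ideal.Quotient.mk P') hk)
      rw [← neg_sub]
      refine neg_mem ?_
      convert h1 using 1
      have h2 : Ideal.Quotient.mk P' (algebraMap A (AwayCompl I f) (f ^ k)) * algebraMap A Q g ^ k = 1 := by
        show algebraMap A Q (f ^ k) * _ = _
        rw [map_pow, ← mul_pow, hfg, one_pow]
      rw [Algebra.linearMap_apply, map_sub, map_mul, map_mul, map_pow, sub_mul, mul_assoc, h2, mul_one]
      rfl
    intro y
    obtain ⟨a, ha⟩ := hsurj y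
    exact ⟨Ideal.Quotient.mk P a, ha⟩

theorem isPrime_map_awayCompl (P : Ideal A) [P.IsPrime] (hf : IsUnit (Ideal.Quotient.mk P f)) :
    (P.map (algebraMap A (AwayCompl I f))).IsPrime := by
  let e := RingEquiv.ofBijective _ (bijective_quotientMap_awayCompl I f P hf)
  haveI : IsDomain (AwayCompl I f ⧸ P.map (algebraMap A (AwayCompl I f))) := e.symm.injective.isDomain _
  exact (Ideal.Quotient.isDomain_iff_prime _).mp inferInstance

theorem eq_map_of_comap_eq (P : Ideal A) (hf : IsUnit (Ideal.Quotient.mk P f)) (Q : Ideal (AwayCompl I f))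
    (hPQ : P.map (algebraMap A (AwayCompl I f)) ≤ Q) (hQ : Q.comap (algebraMap A (AwayCompl I f)) = P) :
    Q = P.map (algebraMap A (AwayCompl I f)) := by
  refine le_antisymm (fun x hx => ?_) hPQ
  obtain ⟨y, hy⟩ := (bijective_quotientMap_awayCompl I f P hf).2 (Ideal.Quotient.mk _ x)
  obtain ⟨a, rfl⟩ := Ideal.Quotient.mk_surjective y
  rw [Ideal.quotientMap_mk, Ideal.Quotient.eq] at hy
  have ha : a ∈ P := hQ.le (by
    rw [Ideal.mem_comap]
    simpa using add_mem (hPQ hy) hx)
  have := sub_mem (Ideal.mem_map_of_mem (algebraMap A (AwayCompl I f)) ha) hy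
  simpa using this

end Away

section Field

/-- Over a field of finite type over `A`, every element is killed by a polynomial with nonzero leading
coefficient. -/
theorem exists_poly_of_finiteType_field {A : Type u} [CommRing A] (κ : Type u) [Field κ] [Algebra A κ]
    [Algebra.FiniteType A κ] (x : κ) :
    ∃ p : Polynomial A, algebraMap A κ p.leadingCoeff ≠ 0 ∧ Polynomial.aeval x p = 0 := by
  let P := RingHom.ker (algebraMap A κ)
  haveI : P.IsPrime := RingHom.ker_isPrime _
  letI : Algebra (A ⧸ P) κ := (RingHom.kerLift (algebraMap A κ)).toAlgebra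
  haveI : IsScalarTower A (A ⧸ P) κ := IsScalarTower.of_algebraMap_eq fun _ => rfl
  haveI : FaithfulSMul (A ⧸ P) κ :=
    (faithfulSMul_iff_algebraMap_injective _ _).mpr (RingHom.kerLift_injective _)
  letI := FractionRing.liftAlgebra (A ⧸ P) κ
  haveI : Algebra.FiniteType (A ⧸ P) κ := Algebra.FiniteType.of_restrictScalars_finiteType A _ _
  haveI : Algebra.FiniteType (FractionRing (A ⧸ P)) κ :=
    Algebra.FiniteType.of_restrictScalars_finiteType (A ⧸ P) _ _
  haveI : Module.Finite (FractionRing (A ⧸ P)) κ := finite_of_finite_type_of_isJacobsonRing _ κ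
  obtain ⟨p, hp0, hpx⟩ := (IsFractionRing.isAlgebraic_iff (A ⧸ P) (FractionRing (A ⧸ P)) κ).mpr
    (Algebra.IsAlgebraic.isAlgebraic (R := FractionRing (A ⧸ P)) x)
  obtain ⟨q, hq, hqd⟩ := Polynomial.mem_lifts_and_degree_eq
    ((Polynomial.mem_lifts p).mpr (Polynomial.map_surjective _ Ideal.Quotient.mk_surjective p) :
      p ∈ Polynomial.lifts (Ideal.Quotient.mk P))
  refine ⟨q, fun h => hp0 ?_, ?_⟩
  · have hnat : q.natDegree = p.natDegree := Polynomial.natDegree_eq_natDegree hqd
    rw [← Polynomial.leadingCoeff_eq_zero, Polynomial.leadingCoeff, ← hnat, ← hq, Polynomial.coeff_map]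
    exact Ideal.Quotient.eq_zero_iff_mem.mpr h
  · rw [← Polynomial.aeval_map_algebraMap (A ⧸ P) x q]
    exact hq ▸ hpx

end Field

section Ker

theorem rigClosed_ker_of_finite {A D : Type u} [CommRing A] [IsNoetherianRing A] {I : Ideal A}
    [IsAdicComplete I A] [CommRing D] [IsDomain D] [Algebra A D] [Module.Finite A D]
    (hD : ringKrullDim D = 1) (hI : ¬ I ≤ RingHom.ker (algebraMap A D)) :
    RigClosed I ⟨RingHom.ker (algebraMap A D), RingHom.ker_isPrime _⟩ := by
  let p := RingHom.ker (algebraMap A D)
  letI : Algebra (A ⧸ p) D := (RingHom.kerLift (algebraMap A D)).toAlgebra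
  haveI : IsScalarTower A (A ⧸ p) D := IsScalarTower.of_algebraMap_eq fun _ => rfl
  haveI : Module.Finite (A ⧸ p) D := Module.Finite.of_restrictScalars_finite A _ _
  refine rigClosed_of_dim_eq_one ?_ hI
  exact ((Groth.L22.AffineDim.ringKrullDim_eq_of_isIntegral (R := A ⧸ p) (S := D)
    (RingHom.kerLift_injective _)).symm.trans hD)

end Ker

section Relative

variable {A : Type u} [CommRing A] [IsNoetherianRing A] {I : Ideal A} [IsAdicComplete I A]
  {B : Type u} [CommRing B] [Algebra A B] [IsNoetherianRing B] [IsAdicComplete (I.map (algebraMap A B)) B]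

omit [IsNoetherianRing A] [IsAdicComplete I A] [IsNoetherianRing B]
  [IsAdicComplete (I.map (algebraMap A B)) B] in
theorem comp_algebraMap_eq (f : A)
    (ψ : AwayCompl I f →+* AwayCompl (I.map (algebraMap A B)) (algebraMap A B f))
    (hψ : ψ.comp (algebraMap (Localization.Away f) (AwayCompl I f)) =
      (algebraMap (Localization.Away (algebraMap A B f))
        (AwayCompl (I.map (algebraMap A B)) (algebraMap A B f))).comp
        (Localization.awayMap (algebraMap A B) f)) :
    ψ.comp (algebraMap A (AwayCompl I f)) =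
      (algebraMap B (AwayCompl (I.map (algebraMap A B)) (algebraMap A B f))).comp (algebraMap A B) := by
  refine RingHom.ext fun a => ?_
  have h1 : algebraMap A (AwayCompl I f) a =
      algebraMap (Localization.Away f) (AwayCompl I f) (algebraMap A (Localization.Away f) a) :=
    IsScalarTower.algebraMap_apply A (Localization.Away f) (AwayCompl I f) a
  have h2 : algebraMap B (AwayCompl (I.map (algebraMap A B)) (algebraMap A B f)) (algebraMap A B a) =
      algebraMap (Localization.Away (algebraMap A B f)) (AwayCompl (I.map (algebraMap A B)) (algebraMap A B f))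
        (algebraMap B (Localization.Away (algebraMap A B f)) (algebraMap A B a)) :=
    IsScalarTower.algebraMap_apply B (Localization.Away (algebraMap A B f))
      (AwayCompl (I.map (algebraMap A B)) (algebraMap A B f)) (algebraMap A B a)
  refine (congrArg ψ h1).trans ((RingHom.congr_fun hψ _).trans (Eq.trans ?_ h2.symm))
  refine congrArg (algebraMap (Localization.Away (algebraMap A B f))
    (AwayCompl (I.map (algebraMap A B)) (algebraMap A B f))) ?_
  simp [Localization.awayMap, IsLocalization.Away.map]

theorem exists_away_rigClosed (hft : Algebra.FiniteType A (B ⧸ I.map (algebraMap A B))) {q : PrimeSpectrum B}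
    (hq : RigClosed (I.map (algebraMap A B)) q) :
    ∃ f : A, IsUnit (Ideal.Quotient.mk q.asIdeal (algebraMap A B f)) ∧
      ∀ ρ : AwayCompl I f →+* B ⧸ q.asIdeal, ρ.comp (algebraMap A (AwayCompl I f)) =
          algebraMap A (B ⧸ q.asIdeal) →
        RigClosed (I.map (algebraMap A (AwayCompl I f))) ⟨RingHom.ker ρ, RingHom.ker_isPrime _⟩ := by
  classical
  haveI := hft
  obtain ⟨h1, hm, -⟩ := props_of_dim_eq_one (dim_eq_one_of_rigClosed hq)
  let D := B ⧸ q.asIdeal
  let J := I.map (algebraMap A D)
  have eJ : J = (I.map (algebraMap A B)).map (Ideal.Quotient.mk q.asIdeal) := by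
    rw [Ideal.map_map]; rfl
  haveI hJc : IsAdicComplete J D := by rw [eJ]; exact isAdicComplete_quotient q.asIdeal
  have hJ0 : J ≠ ⊥ := fun e => hq.1 (by
    rw [eJ, Ideal.map_eq_bot_iff_le_ker, Ideal.mk_ker] at e; exact e)
  rw [← eJ] at hm
  obtain ⟨M, hM⟩ := Ideal.exists_maximal D
  haveI := hM
  have hMJ : M = J.radical := hm M hM
  haveI : Algebra.FiniteType A (D ⧸ J) := by
    have hle : I.map (algebraMap A B) ≤ J.comap (Ideal.Quotient.mkₐ A q.asIdeal) := by
      rw [eJ]; exact Ideal.le_comap_map
    exact Algebra.FiniteType.of_surjective (Ideal.quotientMapₐ _ (Ideal.Quotient.mkₐ A q.asIdeal) hle)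
      (Ideal.quotientMap_surjective (H := hle) Ideal.Quotient.mk_surjective)
  letI := Ideal.Quotient.field M
  let π : D ⧸ J →ₐ[A] D ⧸ M := Ideal.Quotient.factorₐ A (hMJ ▸ Ideal.le_radical)
  haveI : Algebra.FiniteType A (D ⧸ M) :=
    Algebra.FiniteType.of_surjective π (Ideal.Quotient.factor_surjective (hMJ ▸ Ideal.le_radical))
  obtain ⟨s, hs⟩ := Algebra.FiniteType.out (R := A) (A := D ⧸ J)
  choose P hP0 hPx using fun y : D ⧸ J => exists_poly_of_finiteType_field (A := A) (D ⧸ M) (π y)
  have hf0 : algebraMap A (D ⧸ M) (∏ y ∈ s, (P y).leadingCoeff) ≠ 0 := by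
    rw [map_prod]; exact Finset.prod_ne_zero_iff.mpr fun y _ => hP0 y
  refine ⟨∏ y ∈ s, (P y).leadingCoeff, ?_, fun ρ hρ => ?_⟩
  · by_contra hnu
    obtain ⟨N, hN, hfN⟩ := exists_max_ideal_of_mem_nonunits hnu
    apply hf0
    rw [IsScalarTower.algebraMap_apply A D (D ⧸ M)]
    exact Ideal.Quotient.eq_zero_iff_mem.mpr (hMJ ▸ (hm N hN) ▸ hfN)
  · let f := ∏ y ∈ s, (P y).leadingCoeff
    haveI := isNoetherianRing_awayCompl I f
    haveI := isAdicComplete_awayCompl I f
    letI : Algebra (AwayCompl I f) D := ρ.toAlgebra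
    haveI : IsScalarTower A (AwayCompl I f) D := IsScalarTower.of_algebraMap_eq' hρ.symm
    have hfu : IsUnit (algebraMap A (AwayCompl I f) f) := by
      rw [IsScalarTower.algebraMap_apply A (Localization.Away f)]
      exact (IsLocalization.Away.algebraMap_isUnit f).map _
    have hint : ∀ y ∈ s, IsIntegral (AwayCompl I f) (y : D ⧸ J) := by
      intro y hy
      have hu : IsUnit (algebraMap A (AwayCompl I f) (P y).leadingCoeff) :=
        isUnit_of_dvd_unit (map_dvd _ (Finset.dvd_prod_of_mem (fun y => (P y).leadingCoeff) hy)) hfu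
      obtain ⟨d, hd⟩ := Ideal.Quotient.mk_surjective (Polynomial.aeval y (P y))
      have hd0 : d ∈ J.radical := by
        rw [← hMJ, ← Ideal.Quotient.eq_zero_iff_mem]
        have := hPx y
        rw [Polynomial.aeval_algHom_apply, ← hd] at this
        exact this
      obtain ⟨N, hN⟩ := hd0
      haveI : Nontrivial (AwayCompl I f) := RingHom.domain_nontrivial ρ
      let Q := Polynomial.C (hu.unit⁻¹ : (AwayCompl I f)ˣ).1 * (P y).map (algebraMap A (AwayCompl I f))
      have hQ : Q.Monic := by
        apply Polynomial.monic_C_mul_of_mul_leadingCoeff_eq_one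
        rw [Polynomial.leadingCoeff_map_of_leadingCoeff_ne_zero _ hu.ne_zero]
        exact hu.val_inv_mul
      refine ⟨Q ^ N, hQ.pow N, ?_⟩
      rw [← Polynomial.aeval_def, map_pow, map_mul, Polynomial.aeval_map_algebraMap, mul_pow, ← hd,
        ← map_pow (Ideal.Quotient.mk J), Ideal.Quotient.eq_zero_iff_mem.mpr hN, mul_zero]
    haveI : Algebra.FiniteType (AwayCompl I f) (D ⧸ J) :=
      Algebra.FiniteType.of_restrictScalars_finiteType A _ _
    haveI : Algebra.IsIntegral (AwayCompl I f) (D ⧸ J) := ⟨fun z => by
      have hz : z ∈ Algebra.adjoin A (s : Set (D ⧸ J)) := hs ▸ Algebra.mem_top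
      induction hz using Algebra.adjoin_induction with
      | mem x hx => exact hint x hx
      | algebraMap a =>
        rw [IsScalarTower.algebraMap_apply A (AwayCompl I f) (D ⧸ J)]; exact isIntegral_algebraMap
      | add x y _ _ hx hy => exact hx.add hy
      | mul x y _ _ hx hy => exact hx.mul hy⟩
    have eJ' : (I.map (algebraMap A (AwayCompl I f))).map (algebraMap (AwayCompl I f) D) = J := by
      rw [Ideal.map_map, ← IsScalarTower.algebraMap_eq]
    haveI : Module.Finite (AwayCompl I f) (D ⧸ J) := Algebra.IsIntegral.finite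
    haveI : Module.Finite (AwayCompl I f)
        (D ⧸ (I.map (algebraMap A (AwayCompl I f))).map (algebraMap (AwayCompl I f) D)) :=
      Module.Finite.equiv (Ideal.quotientEquivAlgOfEq (AwayCompl I f) eJ'.symm).toLinearEquiv
    haveI : IsAdicComplete ((I.map (algebraMap A (AwayCompl I f))).map (algebraMap (AwayCompl I f) D)) D := by
      rw [eJ']; exact hJc
    haveI : Module.Finite (AwayCompl I f) D :=
      finite_of_finite_quotient (I := I.map (algebraMap A (AwayCompl I f))) D
    exact rigClosed_ker_of_finite (D := D) h1 fun h => hJ0 (by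
      rw [← eJ', Ideal.map_eq_bot_iff_le_ker]; exact h)

theorem exists_away_rigClosed_comap (hft : Algebra.FiniteType A (B ⧸ I.map (algebraMap A B)))
    {q : PrimeSpectrum B} (hq : RigClosed (I.map (algebraMap A B)) q) :
    ∃ f : A, IsUnit (Ideal.Quotient.mk q.asIdeal (algebraMap A B f)) ∧
      ∀ ψ : AwayCompl I f →+* AwayCompl (I.map (algebraMap A B)) (algebraMap A B f),
        ψ.comp (algebraMap (Localization.Away f) (AwayCompl I f)) =
          (algebraMap (Localization.Away (algebraMap A B f))
            (AwayCompl (I.map (algebraMap A B)) (algebraMap A B f))).comp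
            (Localization.awayMap (algebraMap A B) f) →
        let P := (q.asIdeal.map (algebraMap B (AwayCompl (I.map (algebraMap A B)) (algebraMap A B f)))).comap ψ
        P.IsPrime ∧ ¬ I.map (algebraMap A (AwayCompl I f)) ≤ P ∧
          ∀ y : PrimeSpectrum (AwayCompl I f), P ≤ y.asIdeal →
            ¬ I.map (algebraMap A (AwayCompl I f)) ≤ y.asIdeal → y.asIdeal = P := by
  obtain ⟨f, hf, hρ⟩ := exists_away_rigClosed hft hq
  refine ⟨f, hf, fun ψ hψ => ?_⟩
  let e := RingEquiv.ofBijective _
    (bijective_quotientMap_awayCompl (I.map (algebraMap A B)) (algebraMap A B f) q.asIdeal hf)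
  let ρ : AwayCompl I f →+* B ⧸ q.asIdeal := e.symm.toRingHom.comp ((Ideal.Quotient.mk _).comp ψ)
  have hker : RingHom.ker ρ =
      (q.asIdeal.map (algebraMap B (AwayCompl (I.map (algebraMap A B)) (algebraMap A B f)))).comap ψ := by
    ext x
    rw [RingHom.mem_ker, Ideal.mem_comap, ← Ideal.Quotient.eq_zero_iff_mem]
    exact e.symm.map_eq_zero_iff
  have hc := hρ ρ (by
    refine RingHom.ext fun a => ?_
    have h := RingHom.congr_fun (comp_algebraMap_eq f ψ hψ) a
    simp only [RingHom.comp_apply] at h
    show e.symm (Ideal.Quotient.mk _ (ψ (algebraMap A (AwayCompl I f) a))) = _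
    rw [h, RingEquiv.symm_apply_eq]
    rfl)
  intro P
  rw [show P = RingHom.ker ρ from hker.symm]
  exact ⟨RingHom.ker_isPrime _, hc.1, fun y hle hy => congrArg PrimeSpectrum.asIdeal (hc.2 y hle hy)⟩

end Relative

section Flat

/-- Flatness over a local ring whose maximal ideal comes from below. -/
theorem flat_of_map_eq {A R T : Type u} [CommRing A] [CommRing R] [CommRing T] [IsLocalRing R]
    [IsNoetherianRing R] [IsLocalRing T] [IsNoetherianRing T] [Algebra A R] [Algebra R T] [Algebra A T]
    [IsScalarTower A R T] [IsLocalHom (algebraMap R T)] (p : Ideal A)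
    (hp : p.map (algebraMap A R) = IsLocalRing.maximalIdeal R) [Module.Flat A T] : Module.Flat R T := by
  let m := IsLocalRing.maximalIdeal R
  let g : p →ₗ[A] m :=
    { toFun := fun x => ⟨algebraMap A R x.1, hp.le (Ideal.mem_map_of_mem _ x.2)⟩
      map_add' := fun x y => Subtype.ext (map_add _ _ _)
      map_smul' := fun a x => Subtype.ext (by simp [Algebra.smul_def]) }
  let Φ : T ⊗[A] p →ₗ[A] T ⊗[A] m := g.lTensor T
  let π : T ⊗[A] m →ₗ[A] T ⊗[R] m :=
    (TensorProduct.mapOfCompatibleSMul R A A T m).restrictScalars A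
  have hπ : ∀ (t : T) (x : m), π (t ⊗ₜ x) = t ⊗ₜ x := fun t x => rfl
  have hsurj : Function.Surjective (π ∘ₗ Φ) := by
    intro z
    induction z using TensorProduct.induction_on with
    | zero => exact ⟨0, map_zero _⟩
    | add x y hx hy =>
      obtain ⟨a, rfl⟩ := hx
      obtain ⟨b, rfl⟩ := hy
      exact ⟨a + b, map_add _ _ _⟩
    | tmul t x =>
      obtain ⟨x, hx⟩ := x
      have hx' : x ∈ Ideal.span (algebraMap A R '' (p : Set A)) := hp.ge hx
      suffices ∀ t : T, ∃ w, (π ∘ₗ Φ) w = t ⊗ₜ[R] (⟨x, hx⟩ : m) from this t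
      clear t
      revert hx
      induction hx' using Submodule.span_induction with
      | mem y hy =>
        obtain ⟨a, ha, rfl⟩ := hy
        exact fun _ t => ⟨t ⊗ₜ ⟨a, ha⟩, rfl⟩
      | zero => exact fun _ t => ⟨0, by rw [map_zero]; exact (TensorProduct.tmul_zero _ _).symm⟩
      | add y z hy hz ihy ihz =>
        intro _ t
        obtain ⟨a, ha⟩ := ihy (hp.le hy) t
        obtain ⟨b, hb⟩ := ihz (hp.le hz) t
        exact ⟨a + b, by rw [map_add, ha, hb, ← TensorProduct.tmul_add]; rfl⟩
      | smul r y hy ih =>
        intro _ t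
        obtain ⟨a, ha⟩ := ih (hp.le hy) (r • t)
        exact ⟨a, by rw [ha, TensorProduct.smul_tmul]; rfl⟩
  refine L20.flat_of_lTensor_maximalIdeal_injective T ?_
  rw [injective_iff_map_eq_zero]
  intro z hz
  obtain ⟨w, rfl⟩ := hsurj z
  suffices w = 0 by rw [this, map_zero]
  apply Module.Flat.lTensor_preserves_injective_linearMap (M := T) p.subtype p.injective_subtype
  rw [map_zero]
  apply (TensorProduct.rid A T).injective
  rw [map_zero]
  have key : ∀ w : T ⊗[A] p, TensorProduct.rid A T (p.subtype.lTensor T w) =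
      TensorProduct.rid R T (m.subtype.lTensor T ((π ∘ₗ Φ) w)) := fun w => by
    induction w using TensorProduct.induction_on with
    | zero => simp
    | add x y hx hy => simp only [map_add, hx, hy]
    | tmul t x =>
      show x.1 • t = algebraMap A R x.1 • t
      rw [algebraMap_smul]
  rw [key, hz, map_zero]

end Flat

section Naive

variable {A : Type u} [CommRing A] [IsNoetherianRing A] {I : Ideal A} [IsAdicComplete I A]
  {B : Type u} [CommRing B] [Algebra A B] [IsNoetherianRing B] [IsAdicComplete (I.map (algebraMap A B)) B]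

theorem flat_awayCompl_atPrime (hft : Algebra.FiniteType A (B ⧸ I.map (algebraMap A B)))
    (hJ : IsJacobsonRing (A ⧸ I))
    (hnaive : ∀ q : PrimeSpectrum B, RigClosed (I.map (algebraMap A B)) q →
      (algebraMap A (Localization.AtPrime q.asIdeal)).Flat) (f : A)
    (ψ : AwayCompl I f →+* AwayCompl (I.map (algebraMap A B)) (algebraMap A B f))
    (hψ : ψ.comp (algebraMap (Localization.Away f) (AwayCompl I f)) =
      (algebraMap (Localization.Away (algebraMap A B f))
        (AwayCompl (I.map (algebraMap A B)) (algebraMap A B f))).comp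
        (Localization.awayMap (algebraMap A B) f))
    (q' : PrimeSpectrum (AwayCompl (I.map (algebraMap A B)) (algebraMap A B f)))
    (hq' : RigClosed (I.map (algebraMap A (AwayCompl (I.map (algebraMap A B)) (algebraMap A B f)))) q') :
    ((algebraMap (AwayCompl (I.map (algebraMap A B)) (algebraMap A B f))
      (Localization.AtPrime q'.asIdeal)).comp ψ).Flat := by
  haveI := hft
  haveI := hJ
  let B' := AwayCompl (I.map (algebraMap A B)) (algebraMap A B f)
  haveI : IsNoetherianRing B' := isNoetherianRing_awayCompl _ _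
  haveI := isNoetherianRing_awayCompl I f
  haveI := isAdicComplete_awayCompl I f
  have eI : (I.map (algebraMap A B)).map (algebraMap B B') = I.map (algebraMap A B') := by
    exact (Ideal.map_map _ _).trans
      (congrArg (fun g : A →+* B' => I.map g) (IsScalarTower.algebraMap_eq A B B').symm)
  haveI : IsAdicComplete (I.map (algebraMap A B')) B' := by
    rw [← eI]; exact isAdicComplete_awayCompl _ _
  have hfu : IsUnit (algebraMap B B' (algebraMap A B f)) := by
    rw [IsScalarTower.algebraMap_apply B (Localization.Away (algebraMap A B f)) B']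
    exact (IsLocalization.Away.algebraMap_isUnit _).map _
  haveI hft' : Algebra.FiniteType A (B' ⧸ I.map (algebraMap A B')) := by
    have hle : I.map (algebraMap A B) ≤ (I.map (algebraMap A B')).comap (IsScalarTower.toAlgHom A B B') := by
      rw [← eI]; exact Ideal.le_comap_map
    obtain ⟨u, hu⟩ := Ideal.Quotient.mk_surjective
      ((hfu.map (Ideal.Quotient.mk (I.map (algebraMap A B')))).unit⁻¹).1
    let φ : MvPolynomial PUnit.{1} (B ⧸ I.map (algebraMap A B)) →ₐ[A] B' ⧸ I.map (algebraMap A B') :=
      MvPolynomial.aevalTower (Ideal.quotientMapₐ _ (IsScalarTower.toAlgHom A B B') hle)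
        fun _ => Ideal.Quotient.mk _ u
    haveI : Algebra.FiniteType A (MvPolynomial PUnit.{1} (B ⧸ I.map (algebraMap A B))) :=
      Algebra.FiniteType.trans hft inferInstance
    refine Algebra.FiniteType.of_surjective φ fun y => ?_
    obtain ⟨x, rfl⟩ := Ideal.Quotient.mk_surjective y
    obtain ⟨b, k, hk⟩ := exists_approx_awayCompl (I.map (algebraMap A B)) (algebraMap A B f) x
    refine ⟨MvPolynomial.C (Ideal.Quotient.mk _ b) * MvPolynomial.X PUnit.unit ^ k, ?_⟩
    rw [eI, ← Ideal.Quotient.eq, map_mul, map_pow, map_pow] at hk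
    have h2 : (Ideal.Quotient.mk (I.map (algebraMap A B')) (algebraMap B B' (algebraMap A B f))) *
        Ideal.Quotient.mk _ u = 1 := by
      rw [hu]; exact (hfu.map _).mul_val_inv
    rw [map_mul, map_pow]
    simp only [φ, MvPolynomial.aevalTower_C, MvPolynomial.aevalTower_X]
    show Ideal.Quotient.mk _ (algebraMap B B' b) * _ = _
    rw [← hk, mul_assoc, ← mul_pow, h2, one_pow, mul_one]
  haveI hfin : Module.Finite A (B' ⧸ q'.asIdeal) :=
    finite_quotient_of_residue (I := I) (B := B') hft' hq'
      fun m hm _ => finite_residue_of_isJacobsonRing hft' m hm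
  have hdim := (dim_eq_one_of_rigClosed hq').1
  let q := q'.asIdeal.comap (algebraMap B B')
  have kerq : RingHom.ker (algebraMap B (B' ⧸ q'.asIdeal)) = q := by
    ext x; exact Ideal.Quotient.eq_zero_iff_mem
  haveI : Module.Finite B (B' ⧸ q'.asIdeal) := Module.Finite.of_restrictScalars_finite A _ _
  have hqr : RigClosed (I.map (algebraMap A B)) ⟨q, Ideal.comap_isPrime _ _⟩ := by
    have h := rigClosed_ker_of_finite (I := I.map (algebraMap A B)) (A := B) hdim
      (fun h => hq'.1 (by rw [← eI]; exact Ideal.map_le_iff_le_comap.mpr (h.trans kerq.le)))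
    have e : (⟨RingHom.ker (algebraMap B (B' ⧸ q'.asIdeal)), RingHom.ker_isPrime _⟩ : PrimeSpectrum B) =
      ⟨q, Ideal.comap_isPrime _ _⟩ := PrimeSpectrum.ext kerq
    exact e ▸ h
  have hfq : IsUnit (Ideal.Quotient.mk q (algebraMap A B f)) := by
    letI : Algebra (B ⧸ q) (B' ⧸ q'.asIdeal) :=
      (Ideal.quotientMap q'.asIdeal (algebraMap B B') le_rfl).toAlgebra
    haveI : IsScalarTower B (B ⧸ q) (B' ⧸ q'.asIdeal) := IsScalarTower.of_algebraMap_eq fun _ => rfl
    haveI : Module.Finite (B ⧸ q) (B' ⧸ q'.asIdeal) := Module.Finite.of_restrictScalars_finite B _ _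
    haveI : FaithfulSMul (B ⧸ q) (B' ⧸ q'.asIdeal) := (faithfulSMul_iff_algebraMap_injective _ _).mpr
      (Ideal.quotientMap_injective' (H := le_rfl) le_rfl)
    exact IsUnit.of_map (algebraMap (B ⧸ q) (B' ⧸ q'.asIdeal)) _
      (hfu.map (Ideal.Quotient.mk q'.asIdeal))
  haveI : q.IsPrime := Ideal.comap_isPrime _ _
  let p' := q'.asIdeal.comap ψ
  let p := p'.comap (algebraMap A (AwayCompl I f))
  have hfp : IsUnit (Ideal.Quotient.mk p f) := by
    letI : Algebra (A ⧸ p) (B' ⧸ q'.asIdeal) := (Ideal.quotientMap q'.asIdeal (algebraMap A B') (by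
      intro x hx
      have := RingHom.congr_fun (comp_algebraMap_eq f ψ hψ) x
      simp only [RingHom.comp_apply] at this
      rw [Ideal.mem_comap, IsScalarTower.algebraMap_apply A B B', ← this]
      exact hx)).toAlgebra
    haveI : IsScalarTower A (A ⧸ p) (B' ⧸ q'.asIdeal) := IsScalarTower.of_algebraMap_eq fun _ => rfl
    haveI : Module.Finite (A ⧸ p) (B' ⧸ q'.asIdeal) := Module.Finite.of_restrictScalars_finite A _ _
    haveI : FaithfulSMul (A ⧸ p) (B' ⧸ q'.asIdeal) := (faithfulSMul_iff_algebraMap_injective _ _).mpr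
      (Ideal.quotientMap_injective' fun x hx => by
        have := RingHom.congr_fun (comp_algebraMap_eq f ψ hψ) x
        simp only [RingHom.comp_apply] at this
        show ψ _ ∈ q'.asIdeal
        rw [this]
        exact hx)
    exact IsUnit.of_map (algebraMap (A ⧸ p) (B' ⧸ q'.asIdeal)) _
      (hfu.map (Ideal.Quotient.mk q'.asIdeal))
  have hp' : p' = p.map (algebraMap A (AwayCompl I f)) :=
    eq_map_of_comap_eq I f p hfp p' Ideal.map_comap_le rfl
  let T := Localization.AtPrime q'.asIdeal
  haveI : Module.Flat A T := by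
    haveI : Module.Flat A (Localization.AtPrime q) := RingHom.flat_algebraMap_iff.mp (hnaive _ hqr)
    haveI : IsNoetherianRing (Localization.Away (algebraMap A B f)) :=
      IsLocalization.isNoetherianRing (Submonoid.powers (algebraMap A B f)) _ inferInstance
    haveI : Module.Flat (Localization.Away (algebraMap A B f)) B' := AdicCompletion.flat_of_isNoetherian _
    haveI : Module.Flat B (Localization.Away (algebraMap A B f)) :=
      IsLocalization.flat _ (Submonoid.powers (algebraMap A B f))
    haveI : Module.Flat B B' := Module.Flat.trans B (Localization.Away (algebraMap A B f)) B'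
    haveI : Module.Flat B' T := IsLocalization.flat _ q'.asIdeal.primeCompl
    haveI : Module.Flat B T := Module.Flat.trans B B' T
    letI : Algebra (Localization.AtPrime q) T :=
      (Localization.localRingHom q q'.asIdeal (algebraMap B B') rfl).toAlgebra
    haveI : IsScalarTower B (Localization.AtPrime q) T := IsScalarTower.of_algebraMap_eq fun x => by
      rw [RingHom.algebraMap_toAlgebra, Localization.localRingHom_to_map,
        ← IsScalarTower.algebraMap_apply]
    haveI : IsScalarTower A (Localization.AtPrime q) T := IsScalarTower.of_algebraMap_eq fun x => by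
      rw [IsScalarTower.algebraMap_apply A B (Localization.AtPrime q),
        ← IsScalarTower.algebraMap_apply B (Localization.AtPrime q) T, ← IsScalarTower.algebraMap_apply]
    haveI : Module.Flat (Localization.AtPrime q) T :=
      (Module.flat_iff_of_isLocalization (Localization.AtPrime q) q.primeCompl T).mpr inferInstance
    exact Module.Flat.trans A (Localization.AtPrime q) T
  letI : Algebra (AwayCompl I f) T := ((algebraMap B' T).comp ψ).toAlgebra
  show Module.Flat (AwayCompl I f) T
  haveI : IsScalarTower A (AwayCompl I f) T := IsScalarTower.of_algebraMap_eq fun x => by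
    rw [RingHom.algebraMap_toAlgebra]
    show _ = algebraMap B' T (ψ (algebraMap A (AwayCompl I f) x))
    have := RingHom.congr_fun (comp_algebraMap_eq f ψ hψ) x
    simp only [RingHom.comp_apply] at this
    rw [this, ← IsScalarTower.algebraMap_apply, ← IsScalarTower.algebraMap_apply]
  letI : Algebra (Localization.AtPrime p') T :=
    (Localization.localRingHom p' q'.asIdeal ψ rfl).toAlgebra
  haveI : IsScalarTower (AwayCompl I f) (Localization.AtPrime p') T :=
    IsScalarTower.of_algebraMap_eq fun x => (Localization.localRingHom_to_map _ _ ψ rfl x).symm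
  haveI : IsScalarTower A (Localization.AtPrime p') T := IsScalarTower.of_algebraMap_eq fun x => by
    rw [IsScalarTower.algebraMap_apply A (AwayCompl I f) (Localization.AtPrime p'),
      ← IsScalarTower.algebraMap_apply (AwayCompl I f) (Localization.AtPrime p') T,
      ← IsScalarTower.algebraMap_apply]
  haveI : IsLocalHom (algebraMap (Localization.AtPrime p') T) :=
    Localization.isLocalHom_localRingHom p' q'.asIdeal ψ rfl
  haveI : IsNoetherianRing (Localization.AtPrime p') :=
    IsLocalization.isNoetherianRing p'.primeCompl _ inferInstance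
  haveI : IsNoetherianRing T := IsLocalization.isNoetherianRing q'.asIdeal.primeCompl _ inferInstance
  haveI : Module.Flat (Localization.AtPrime p') T := flat_of_map_eq p (by
    rw [IsScalarTower.algebraMap_eq A (AwayCompl I f) (Localization.AtPrime p'), ← Ideal.map_map, ← hp']
    exact Localization.AtPrime.map_eq_maximalIdeal)
  haveI : Module.Flat (AwayCompl I f) (Localization.AtPrime p') := IsLocalization.flat _ p'.primeCompl
  exact Module.Flat.trans (AwayCompl I f) (Localization.AtPrime p') T

end Naive

end Groth.L05.Rig
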