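import Groth.Agent.L05.Rig.Closed
import Groth.Agent.L06.CompleteGRing
import Groth.Agent.L06.GRingFT
import Groth.Agent.S0600
import Groth.Agent.S9294
import Groth.Agent.S0543
import Mathlib.RingTheory.RegularLocalRing.Polynomial
import Mathlib.RingTheory.TensorProduct.MvPolynomial

/-!
# Restricted power series over a rig point
-/

set_option autoImplicit false
set_option maxSynthPendingDepth 3
universe u

namespace Groth.L05.Rig

open TensorProduct

theorem isRegularHom_mvPolynomial (R : Type u) [CommRing R] [IsNoetherianRing R] (n : ℕ) :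
    CAlg.IsRegularHom R (MvPolynomial (Fin n) R) := by
  refine ⟨inferInstance, fun p _ => ⟨Groth.L06.GeomLocal.isNoetherianRing_fiber p, fun K _ _ hK => ?_⟩⟩
  letI : Algebra R K := ((algebraMap p.ResidueField K).comp (algebraMap R p.ResidueField)).toAlgebra
  haveI : IsScalarTower R p.ResidueField K := IsScalarTower.of_algebraMap_eq' rfl
  let e : K ⊗[p.ResidueField] (p.Fiber (MvPolynomial (Fin n) R)) ≃ₐ[K] MvPolynomial (Fin n) K :=
    (Algebra.TensorProduct.cancelBaseChange R p.ResidueField K K (MvPolynomial (Fin n) R)).trans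
      (MvPolynomial.algebraTensorAlgEquiv R K)
  exact IsRegularRing.of_ringEquiv e.symm.toRingEquiv

theorem isGRing_quotient_rigClosed {A : Type u} [CommRing A] [IsNoetherianRing A] {I : Ideal A} [IsAdicComplete I A]
    {p : PrimeSpectrum A} (hp : RigClosed I p) : CAlg.IsGRing (A ⧸ p.asIdeal) := by
  obtain ⟨-, hm, hc⟩ := props_of_dim_eq_one (dim_eq_one_of_rigClosed hp)
  obtain ⟨M, hM⟩ := Ideal.exists_maximal (A ⧸ p.asIdeal)
  haveI : IsLocalRing (A ⧸ p.asIdeal) :=
    IsLocalRing.of_unique_max_ideal ⟨M, hM, fun N hN => (hm N hN).trans (hm M hM).symm⟩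
  haveI : IsAdicComplete (IsLocalRing.maximalIdeal (A ⧸ p.asIdeal)) (A ⧸ p.asIdeal) := by
    rw [hm _ (IsLocalRing.maximalIdeal.isMaximal _)]
    exact hc
  exact Groth.L06.CompleteGRing.isGRing (A ⧸ p.asIdeal)

theorem isRegularHom_restrictedPowerSeries {A : Type u} [CommRing A] [IsNoetherianRing A] {I : Ideal A}
    [IsAdicComplete I A] {p : PrimeSpectrum A} (hp : RigClosed I p) (n : ℕ) :
    CAlg.IsRegularHom (A ⧸ p.asIdeal)
      (AdicCompletion (I.map (algebraMap A (MvPolynomial (Fin n) (A ⧸ p.asIdeal))))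
        (MvPolynomial (Fin n) (A ⧸ p.asIdeal))) := by
  let R := A ⧸ p.asIdeal
  let P := MvPolynomial (Fin n) R
  let J := I.map (algebraMap A P)
  have hP : CAlg.IsGRing P := Groth.L06.GRingFT.isGRing_mvPolynomial (isGRing_quotient_rigClosed hp) n
  haveI : IsNoetherianRing (AdicCompletion J P) := Groth.Agent.S0543.result P J
  exact Groth.Agent.S9294.result R P (AdicCompletion J P) (isRegularHom_mvPolynomial R n)
    (Groth.Agent.S0600.result P hP J) fun q _ => Groth.L06.GeomLocal.isNoetherianRing_fiber q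

end Groth.L05.Rig
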