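import Groth.Agent.L05.Rig.Hom
import Groth.Agent.L05.Rig.Etale
import Mathlib.RingTheory.Unramified.Basic

/-!
# Rig-flatness: composition, descent, base change along maps etale modulo the ideal
-/

set_option autoImplicit false

universe u

namespace Groth.L05.Rig

variable {A : Type u} [CommRing A]

/-- Rig-flatness in the spelled out form. -/
abbrev RigFlatHyp (A B : Type u) [CommRing A] [CommRing B] [Algebra A B] (I : Ideal A) : Prop :=
  ∀ f : A, ∀ ψ : AwayCompl I f →+* AwayCompl (I.map (algebraMap A B)) (algebraMap A B f),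
    ψ.comp (algebraMap (Localization.Away f) (AwayCompl I f)) =
      (algebraMap (Localization.Away (algebraMap A B f))
        (AwayCompl (I.map (algebraMap A B)) (algebraMap A B f))).comp
        (Localization.awayMap (algebraMap A B) f) →
    ∀ q : PrimeSpectrum (AwayCompl (I.map (algebraMap A B)) (algebraMap A B f)),
      RigClosed (((I.map (algebraMap A B)).map (algebraMap B (Localization.Away (algebraMap A B f)))).map
        (algebraMap (Localization.Away (algebraMap A B f))
          (AwayCompl (I.map (algebraMap A B)) (algebraMap A B f)))) q →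
      ((algebraMap (AwayCompl (I.map (algebraMap A B)) (algebraMap A B f))
        (Localization.AtPrime q.asIdeal)).comp ψ).Flat

variable {B : Type u} [CommRing B] [Algebra A B] {I : Ideal A}

theorem map_map_awayCompl [IsNoetherianRing B] (J : Ideal B) (h : B) :
    (J.map (algebraMap B (Localization.Away h))).map (algebraMap (Localization.Away h) (AwayCompl J h)) =
      J.map (algebraMap B (AwayCompl J h)) := by
  exact (Ideal.map_map _ _).trans (congrArg (fun g => Ideal.map g J)
    (IsScalarTower.algebraMap_eq B (Localization.Away h) (AwayCompl J h)).symm)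

theorem compat_iff (f : A) (ψ : AwayCompl I f →+* AwayCompl (I.map (algebraMap A B)) (algebraMap A B f)) :
    ψ.comp (algebraMap (Localization.Away f) (AwayCompl I f)) =
        (algebraMap (Localization.Away (algebraMap A B f))
          (AwayCompl (I.map (algebraMap A B)) (algebraMap A B f))).comp
          (Localization.awayMap (algebraMap A B) f) ↔
      ψ.comp (algebraMap A (AwayCompl I f)) =
        (algebraMap B (AwayCompl (I.map (algebraMap A B)) (algebraMap A B f))).comp (algebraMap A B) := by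
  refine ⟨comp_algebraMap_eq f ψ, fun h => IsLocalization.ringHom_ext (Submonoid.powers f) ?_⟩
  have e : (Localization.awayMap (algebraMap A B) f).comp (algebraMap A (Localization.Away f)) =
      (algebraMap B (Localization.Away (algebraMap A B f))).comp (algebraMap A B) := by
    refine RingHom.ext fun a => ?_
    simp [Localization.awayMap, IsLocalization.Away.map]
  rw [RingHom.comp_assoc, RingHom.comp_assoc, e, ← IsScalarTower.algebraMap_eq, h, ← RingHom.comp_assoc]
  exact congrArg (fun g => RingHom.comp g (algebraMap A B))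
    (IsScalarTower.algebraMap_eq B (Localization.Away (algebraMap A B f))
      (AwayCompl (I.map (algebraMap A B)) (algebraMap A B f)))

variable [IsNoetherianRing B]

theorem RigFlatHyp.flatAt (H : RigFlatHyp A B I) {f : A}
    {ψ : AwayCompl I f →+* AwayCompl (I.map (algebraMap A B)) (algebraMap A B f)}
    (hψ : ψ.comp (algebraMap A (AwayCompl I f)) =
      (algebraMap B (AwayCompl (I.map (algebraMap A B)) (algebraMap A B f))).comp (algebraMap A B))
    {D : Type u} [CommRing D] {φ : AwayCompl (I.map (algebraMap A B)) (algebraMap A B f) →+* D}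
    (hp : IsPt ((I.map (algebraMap A B)).map
      (algebraMap B (AwayCompl (I.map (algebraMap A B)) (algebraMap A B f)))) φ) (hfin : φ.Finite) :
    haveI := hp.isPrime_ker; FlatAt ψ (RingHom.ker φ) := by
  haveI := hp.isPrime_ker
  haveI := isNoetherianRing_awayCompl (I.map (algebraMap A B)) (algebraMap A B f)
  haveI := isAdicComplete_awayCompl (I.map (algebraMap A B)) (algebraMap A B f)
  have hr := hp.rigClosed hfin
  exact H f ψ ((compat_iff f ψ).mpr hψ) ⟨RingHom.ker φ, hp.isPrime_ker⟩
    ⟨fun h => hr.1 ((map_map_awayCompl _ _).ge.trans h),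
      fun y hy hn => hr.2 y hy fun h => hn ((map_map_awayCompl _ _).le.trans h)⟩

theorem RigFlatHyp.intro
    (H : ∀ (f : A) (ψ : AwayCompl I f →+* AwayCompl (I.map (algebraMap A B)) (algebraMap A B f)),
      ψ.comp (algebraMap A (AwayCompl I f)) =
        (algebraMap B (AwayCompl (I.map (algebraMap A B)) (algebraMap A B f))).comp (algebraMap A B) →
      ∀ (r : Ideal (AwayCompl (I.map (algebraMap A B)) (algebraMap A B f))) [r.IsPrime],
        IsPt ((I.map (algebraMap A B)).map
          (algebraMap B (AwayCompl (I.map (algebraMap A B)) (algebraMap A B f)))) (Ideal.Quotient.mk r) →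
        FlatAt ψ r) : RigFlatHyp A B I := by
  intro f ψ hψ q hq
  haveI := isNoetherianRing_awayCompl (I.map (algebraMap A B)) (algebraMap A B f)
  haveI := isAdicComplete_awayCompl (I.map (algebraMap A B)) (algebraMap A B f)
  exact H f ψ ((compat_iff f ψ).mp hψ) q.asIdeal (IsPt.of_rigClosed
    ⟨fun h => hq.1 ((map_map_awayCompl _ _).le.trans h),
      fun y hy hn => hq.2 y hy fun h => hn ((map_map_awayCompl _ _).ge.trans h)⟩)

variable [IsNoetherianRing A]

/-- A flat map is rig-flat. -/
theorem rigFlat_of_flat [Module.Flat A B] : RigFlatHyp A B I :=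
  RigFlatHyp.intro fun f ψ hψ r _ _ =>
    flatAt_of_flat ψ (flat_map_awayCompl _ (RingHom.flat_algebraMap_iff.mpr inferInstance) rfl dvd_rfl ψ hψ) r

/-- Composition of rig-flat maps. -/
theorem rigFlat_comp (hftB : Algebra.FiniteType A (B ⧸ I.map (algebraMap A B)))
    {C : Type u} [CommRing C] [Algebra A C] [Algebra B C] [IsScalarTower A B C] [IsNoetherianRing C]
    (hftC : Algebra.FiniteType B (C ⧸ I.map (algebraMap A C)))
    (hAB : RigFlatHyp A B I) (hBC : RigFlatHyp B C (I.map (algebraMap A B))) : RigFlatHyp A C I := by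
  have eC : I.map (algebraMap A C) = (I.map (algebraMap A B)).map (algebraMap B C) := by
    rw [Ideal.map_map, ← IsScalarTower.algebraMap_eq]
  refine RigFlatHyp.intro fun e ψe hψe r _ hp => ?_
  let φ := Ideal.Quotient.mk r
  have hφfin : φ.Finite := RingHom.Finite.of_surjective _ Ideal.Quotient.mk_surjective
  let φ0 := φ.comp (algebraMap C (AwayCompl (I.map (algebraMap A C)) (algebraMap A C e)))
  have hp0 : IsPt (I.map (algebraMap A C)) φ0 := hp.comp rfl
  let φB := φ0.comp (algebraMap B C)
  have hpB : IsPt (I.map (algebraMap A B)) φB := hp0.comp eC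
  let φA := φB.comp (algebraMap A B)
  have hpA : IsPt I φA := hpB.comp rfl
  have hftB0 : FTMod (I.map (algebraMap A B)) (algebraMap B C) :=
    ftMod_algebraMap (by rw [← eC]; exact hftC)
  have hftBD : FTMod (I.map (algebraMap A B)) φB := by
    have h := (hftB0.awayCompl eC (algebraMap A C e)).comp_finite hφfin
    rwa [← RingHom.comp_assoc] at h
  obtain ⟨g0, hg0, hgfin⟩ := exists_away_finite hpB hftBD
  have hue : IsUnit (φB (algebraMap A B e)) := by
    show IsUnit (φ0 (algebraMap B C (algebraMap A B e)))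
    rw [← IsScalarTower.algebraMap_apply]
    exact (isUnit_algebraMap_of_dvd dvd_rfl).map φ
  let g := g0 * algebraMap A B e
  have hug : IsUnit (φB g) := by rw [map_mul]; exact hg0.mul hue
  obtain ⟨ρg, hρg⟩ := hpB.exists_lift hug
  have hρgfin : ρg.Finite := hgfin g (dvd_mul_right _ _) ρg hρg
  obtain ⟨φg, hφg⟩ := hp0.exists_lift (h := algebraMap B C g) hug
  obtain ⟨ψg, hψg⟩ := exists_map_awayCompl (J := I.map (algebraMap A B))
    (J' := (I.map (algebraMap A B)).map (algebraMap B C)) (h := g) (h' := algebraMap B C g)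
    (algebraMap B C) rfl dvd_rfl
  have hp0' : IsPt ((I.map (algebraMap A B)).map (algebraMap B C)) φ0 := eC ▸ hp0
  obtain ⟨φg', hφg'⟩ := hp0'.exists_lift (h := algebraMap B C g) hug
  have eg : φg'.comp ψg = ρg := hpB.hom_ext (by
    rw [RingHom.comp_assoc, hψg, ← RingHom.comp_assoc, hφg']) hρg
  have hφgfin : φg'.Finite := RingHom.Finite.of_comp_finite (f := ψg) (eg ▸ hρgfin)
  have hpg' := hp0'.of_lift hφg'
  haveI := hpg'.isPrime_ker
  have h1 : FlatAt ψg (RingHom.ker φg') := hBC.flatAt hψg hpg' hφgfin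
  have hρgpt := hpB.of_lift hρg
  haveI := hρgpt.isPrime_ker
  have hftA0 : FTMod I ((algebraMap B (AwayCompl (I.map (algebraMap A B)) g)).comp (algebraMap A B)) :=
    (ftMod_algebraMap hftB).awayCompl rfl g
  have hftAD : FTMod I φA := by
    have h := hftA0.comp_finite hρgfin
    rwa [← RingHom.comp_assoc, hρg] at h
  obtain ⟨f0, hf0, hffin⟩ := exists_away_finite hpA hftAD
  let f := f0 * e
  have huf : IsUnit (φA f) := by rw [map_mul]; exact hf0.mul hue
  obtain ⟨ρf, hρf⟩ := hpA.exists_lift huf
  have hρffin : ρf.Finite := hffin f (dvd_mul_right _ _) ρf hρf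
  obtain ⟨φBf, hφBf⟩ := hpB.exists_lift (h := algebraMap A B f) huf
  obtain ⟨ψf, hψf⟩ := exists_map_awayCompl (J := I) (J' := I.map (algebraMap A B)) (h := f)
    (h' := algebraMap A B f) (algebraMap A B) rfl dvd_rfl
  have ef : φBf.comp ψf = ρf := hpA.hom_ext (by
    rw [RingHom.comp_assoc, hψf, ← RingHom.comp_assoc, hφBf]) hρf
  have hφBffin : φBf.Finite := RingHom.Finite.of_comp_finite (f := ψf) (ef ▸ hρffin)
  have hpBf := hpB.of_lift hφBf
  haveI := hpBf.isPrime_ker
  have h2 : FlatAt ψf (RingHom.ker φBf) := hAB.flatAt hψf hpBf hφBffin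
  obtain ⟨αe, hαe⟩ := exists_map_awayCompl (J := I) (J' := I) (h := e) (h' := f) (RingHom.id A)
    (Ideal.map_id I).symm (dvd_mul_left _ _)
  have hαeflat : αe.Flat := flat_map_awayCompl _ (RingHom.Flat.id A) (Ideal.map_id I).symm
    (dvd_mul_left _ _) αe hαe
  have hugf : IsUnit (φB (g * algebraMap A B f)) := by rw [map_mul]; exact hug.mul huf
  obtain ⟨φgf, hφgf⟩ := hpB.exists_lift hugf
  have hpgf := hpB.of_lift hφgf
  haveI := hpgf.isPrime_ker
  obtain ⟨β1, hβ1⟩ := exists_map_awayCompl (J := I.map (algebraMap A B)) (J' := I.map (algebraMap A B))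
    (h := algebraMap A B f) (h' := g * algebraMap A B f) (RingHom.id B) (Ideal.map_id _).symm (dvd_mul_left _ _)
  have hβ1flat := flat_map_awayCompl _ (RingHom.Flat.id B) (Ideal.map_id _).symm (dvd_mul_left _ _) β1 hβ1
  obtain ⟨β2, hβ2⟩ := exists_map_awayCompl (J := I.map (algebraMap A B)) (J' := I.map (algebraMap A B))
    (h := g) (h' := g * algebraMap A B f) (RingHom.id B) (Ideal.map_id _).symm (dvd_mul_right _ _)
  have hβ2flat := flat_map_awayCompl _ (RingHom.Flat.id B) (Ideal.map_id _).symm (dvd_mul_right _ _) β2 hβ2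
  rw [RingHom.comp_id] at hβ1 hβ2
  rw [RingHom.comp_id] at hαe
  obtain ⟨θ, hθ⟩ := exists_map_awayCompl (J := I) (J' := I.map (algebraMap A B)) (h := e) (h' := g)
    (algebraMap A B) rfl (dvd_mul_left _ _)
  have k1 : φgf.comp β1 = φBf := hpB.hom_ext (by rw [RingHom.comp_assoc, hβ1, hφgf]) hφBf
  have k2 : φgf.comp β2 = ρg := hpB.hom_ext (by rw [RingHom.comp_assoc, hβ2, hφgf]) hρg
  have h3 : FlatAt (ψf.comp αe) (RingHom.ker φBf) := by
    haveI : ((RingHom.ker φBf).comap ψf).IsPrime := Ideal.comap_isPrime _ _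
    exact flatAt_comp rfl (flatAt_of_flat αe hαeflat _) h2
  have h4 : FlatAt (β1.comp (ψf.comp αe)) (RingHom.ker φgf) :=
    flatAt_comp (by rw [RingHom.comap_ker, k1]) h3 (flatAt_of_flat β1 hβ1flat _)
  have k3 : β1.comp (ψf.comp αe) = β2.comp θ := map_hom_ext (algebraMap A B) rfl (by
    rw [RingHom.comp_assoc, RingHom.comp_assoc, hαe, hψf, ← RingHom.comp_assoc, hβ1]) (by
    rw [RingHom.comp_assoc, hθ, ← RingHom.comp_assoc, hβ2])
  rw [k3] at h4
  have h5 : FlatAt θ (RingHom.ker ρg) :=
    flatAt_descend (by rw [RingHom.comap_ker, k2]) h4 (flatAt_of_flat β2 hβ2flat _)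
  have h6 : FlatAt (ψg.comp θ) (RingHom.ker φg') := flatAt_comp (by rw [RingHom.comap_ker, eg]) h5 h1
  obtain ⟨γ, hγ⟩ := exists_map_awayCompl (J := I.map (algebraMap A C))
    (J' := (I.map (algebraMap A B)).map (algebraMap B C)) (h := algebraMap A C e) (h' := algebraMap B C g)
    (RingHom.id C) (by rw [Ideal.map_id, eC])
    (by rw [RingHom.id_apply, IsScalarTower.algebraMap_apply A B C]; exact map_dvd _ (dvd_mul_left _ _))
  have hγflat := flat_map_awayCompl _ (RingHom.Flat.id C) (by rw [Ideal.map_id, eC])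
    (by rw [RingHom.id_apply, IsScalarTower.algebraMap_apply A B C]; exact map_dvd _ (dvd_mul_left _ _)) γ hγ
  rw [RingHom.comp_id] at hγ
  have k4 : φg'.comp γ = φ := hp0.hom_ext (by rw [RingHom.comp_assoc, hγ, hφg']) rfl
  have k5 : ψg.comp θ = γ.comp ψe := map_hom_ext (algebraMap A C)
    (show (I.map (algebraMap A B)).map (algebraMap B C) = I.map (algebraMap A C) from eC.symm) (by
    rw [RingHom.comp_assoc, hθ, ← RingHom.comp_assoc, hψg, RingHom.comp_assoc,
      ← IsScalarTower.algebraMap_eq]) (by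
    rw [RingHom.comp_assoc, hψe, ← RingHom.comp_assoc, hγ])
  rw [k5] at h6
  exact flatAt_descend (by rw [RingHom.comap_ker, k4, Ideal.mk_ker]) h6 (flatAt_of_flat γ hγflat _)

section Square

variable {A' : Type u} [CommRing A'] [Algebra A A'] [IsNoetherianRing A'] {B' : Type u} [CommRing B']
  [Algebra A B'] [Algebra B B'] [Algebra A' B'] [IsScalarTower A B B'] [IsScalarTower A A' B'] [IsNoetherianRing B']

omit [IsNoetherianRing A] [IsNoetherianRing B] [IsNoetherianRing A'] [IsNoetherianRing B'] in
theorem map_map_square : (I.map (algebraMap A A')).map (algebraMap A' B') =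
    (I.map (algebraMap A B)).map (algebraMap B B') := by
  rw [Ideal.map_map, Ideal.map_map, ← IsScalarTower.algebraMap_eq, ← IsScalarTower.algebraMap_eq]

/-- Descent of rig-flatness along a faithfully flat map. -/
theorem rigFlat_descent (hftB' : Algebra.FiniteType B (B' ⧸ I.map (algebraMap A B')))
    [Module.Flat A A'] [Module.FaithfullyFlat B B']
    (hA'B' : RigFlatHyp A' B' (I.map (algebraMap A A'))) : RigFlatHyp A B I := by
  refine RigFlatHyp.intro fun f ψ hψ q _ hp => ?_
  let h' := algebraMap A' B' (algebraMap A A' f)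
  have hh : algebraMap B B' (algebraMap A B f) = h' :=
    (IsScalarTower.algebraMap_apply A B B' f).symm.trans (IsScalarTower.algebraMap_apply A A' B' f)
  let J' := (I.map (algebraMap A A')).map (algebraMap A' B')
  have hJ' : J' = (I.map (algebraMap A B)).map (algebraMap B B') := map_map_square
  obtain ⟨γ, hγ⟩ := exists_map_awayCompl (J := I.map (algebraMap A B)) (J' := J') (h := algebraMap A B f)
    (h' := h') (algebraMap B B') hJ' hh.dvd
  have hγflat := flat_map_awayCompl _ (RingHom.flat_algebraMap_iff.mpr inferInstance) hJ' hh.dvd γ hγ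
  let R := AwayCompl (I.map (algebraMap A B)) (algebraMap A B f)
  let R' := AwayCompl J' h'
  haveI : IsNoetherianRing R := isNoetherianRing_awayCompl _ _
  haveI : IsNoetherianRing R' := isNoetherianRing_awayCompl _ _
  let K := (I.map (algebraMap A B)).map (algebraMap B R)
  haveI : IsAdicComplete K R := isAdicComplete_awayCompl _ _
  letI : Algebra R R' := γ.toAlgebra
  haveI : IsScalarTower B R R' :=
    IsScalarTower.of_algebraMap_eq' ((IsScalarTower.algebraMap_eq B B' R').trans hγ.symm)
  have eK : K.map (algebraMap R R') = J'.map (algebraMap B' R') :=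
    ((Ideal.map_map _ _).trans (congrArg (fun g => Ideal.map g (I.map (algebraMap A B))) hγ)).trans
      ((Ideal.map_map _ _).symm.trans (congrArg (Ideal.map (algebraMap B' R')) hJ'.symm))
  haveI : IsAdicComplete (K.map (algebraMap R R')) R' := by rw [eK]; exact isAdicComplete_awayCompl _ _
  have hftR : Algebra.FiniteType R (R' ⧸ K.map (algebraMap R R')) := by
    have h1 : FTMod (I.map (algebraMap A B)) (algebraMap B B') :=
      ftMod_algebraMap (by
        rw [Ideal.map_map, ← IsScalarTower.algebraMap_eq]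
        exact hftB')
    have h2' := h1.awayCompl (J := J') hJ' h'
    rw [show (algebraMap B' (AwayCompl J' h')).comp (algebraMap B B') = algebraMap B R' from
      (IsScalarTower.algebraMap_eq B B' R').symm] at h2'
    have h2 : FTMod (I.map (algebraMap A B)) (algebraMap B R') := h2'
    haveI : Algebra.FiniteType B (R' ⧸ (I.map (algebraMap A B)).map (algebraMap B R')) :=
      RingHom.finiteType_algebraMap.mp h2
    haveI : Algebra.FiniteType R (R' ⧸ (I.map (algebraMap A B)).map (algebraMap B R')) :=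
      Algebra.FiniteType.of_restrictScalars_finiteType B _ _
    have e : (I.map (algebraMap A B)).map (algebraMap B R') = K.map (algebraMap R R') :=
      ((Ideal.map_map _ _).trans (congrArg (fun g => Ideal.map g (I.map (algebraMap A B)))
        (IsScalarTower.algebraMap_eq B R R').symm)).symm
    exact Algebra.FiniteType.equiv (R := R) inferInstance (Ideal.quotientEquivAlgOfEq R e)
  haveI : Module.Flat R R' := hγflat
  have hqr : RigClosed K ⟨q, inferInstance⟩ := by
    have h := hp.rigClosed (RingHom.Finite.of_surjective _ Ideal.Quotient.mk_surjective)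
    have e : (⟨RingHom.ker (Ideal.Quotient.mk q), hp.isPrime_ker⟩ : PrimeSpectrum R) = ⟨q, inferInstance⟩ :=
      PrimeSpectrum.ext Ideal.mk_ker
    exact e ▸ h
  have hex : ∃ Q : PrimeSpectrum R', K.map (algebraMap R R') ≤ Q.asIdeal ∧
      q ≤ (PrimeSpectrum.comap (algebraMap R R') Q).asIdeal ∧
      (PrimeSpectrum.comap (algebraMap R R') Q).asIdeal.IsMaximal := by
    obtain ⟨M, hM, hqM⟩ := Ideal.exists_le_maximal q (Ideal.IsPrime.ne_top inferInstance)
    haveI := hM
    have hKM : K ≤ M := (IsAdicComplete.le_jacobson_bot K).trans (sInf_le ⟨bot_le, hM⟩)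
    let M0 := M.comap (algebraMap B R)
    haveI : M0.IsPrime := Ideal.comap_isPrime _ _
    obtain ⟨Q0, hQ0⟩ := PrimeSpectrum.comap_surjective_of_faithfullyFlat (A := B) (B := B') ⟨M0, inferInstance⟩
    have hQ0' : Q0.asIdeal.comap (algebraMap B B') = M0 := congrArg PrimeSpectrum.asIdeal hQ0
    let κ := FractionRing (B' ⧸ Q0.asIdeal)
    let χ0 : B' →+* κ := (algebraMap (B' ⧸ Q0.asIdeal) κ).comp (Ideal.Quotient.mk Q0.asIdeal)
    have hker : ∀ b : B', χ0 b = 0 ↔ b ∈ Q0.asIdeal := fun b => by
      rw [RingHom.comp_apply, map_eq_zero_iff _ (IsFractionRing.injective _ _), Ideal.Quotient.eq_zero_iff_mem]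
    have hJQ : J'.map χ0 ≤ (⊥ : Ideal κ) := by
      rw [hJ', Ideal.map_map, Ideal.map_le_iff_le_comap]
      intro b hb
      show χ0 (algebraMap B B' b) ∈ (⊥ : Ideal κ)
      rw [Ideal.mem_bot, hker, ← Ideal.mem_comap, hQ0']
      exact hKM (Ideal.mem_map_of_mem _ hb)
    have hu : IsUnit (χ0 h') := isUnit_iff_ne_zero.mpr fun h0 => by
      rw [hker, ← hh, ← Ideal.mem_comap, hQ0'] at h0
      exact hM.ne_top (Ideal.eq_top_of_isUnit_mem _ h0 (isUnit_algebraMap_of_dvd dvd_rfl))
    obtain ⟨χ, hχ⟩ := exists_lift_awayCompl (⊥ : Ideal κ) χ0 hJQ hu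
    haveI : (RingHom.ker χ).IsPrime := RingHom.ker_isPrime _
    have hKQ : K.map (algebraMap R R') ≤ RingHom.ker χ := by
      rw [eK, Ideal.map_le_iff_le_comap, RingHom.comap_ker, hχ]
      intro b hb
      exact Ideal.mem_bot.mp (hJQ (Ideal.mem_map_of_mem χ0 hb))
    haveI : ((RingHom.ker χ).comap (algebraMap R R')).IsPrime := Ideal.comap_isPrime _ _
    have hcomap : (RingHom.ker χ).comap (algebraMap R R') = M := by
      refine eq_of_comap_eq_awayCompl (Ideal.map_le_iff_le_comap.mp hKQ) hKM ?_
      show ((RingHom.ker χ).comap (algebraMap R R')).comap (algebraMap B R) = M0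
      rw [Ideal.comap_comap, RingHom.comap_ker,
        show (algebraMap R R').comp (algebraMap B R) = (algebraMap B' R').comp (algebraMap B B') from hγ,
        ← RingHom.comp_assoc, hχ]
      ext b
      rw [RingHom.mem_ker, RingHom.comp_apply, hker, ← Ideal.mem_comap, hQ0']
    exact ⟨⟨RingHom.ker χ, inferInstance⟩, hKQ, hqM.trans hcomap.ge, by
      show ((RingHom.ker χ).comap (algebraMap R R')).IsMaximal
      rw [hcomap]; exact hM⟩
  obtain ⟨Q', hQ', hQ'q⟩ := (exists_rigClosed_over_iff (I := K) hftR hqr).mp hex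
  have hQ'q' : q = Q'.asIdeal.comap γ := (congrArg PrimeSpectrum.asIdeal hQ'q).symm
  have hpt' : IsPt (J'.map (algebraMap B' R')) (Ideal.Quotient.mk Q'.asIdeal) :=
    eK ▸ IsPt.of_rigClosed hQ'
  haveI := hpt'.isPrime_ker
  obtain ⟨ψ', hψ'⟩ := exists_map_awayCompl (J := I.map (algebraMap A A')) (J' := J')
    (h := algebraMap A A' f) (h' := h') (algebraMap A' B') rfl dvd_rfl
  have h1 : FlatAt ψ' (RingHom.ker (Ideal.Quotient.mk Q'.asIdeal)) :=
    hA'B'.flatAt hψ' hpt' (RingHom.Finite.of_surjective _ Ideal.Quotient.mk_surjective)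
  obtain ⟨α, hα⟩ := exists_map_awayCompl (J := I) (J' := I.map (algebraMap A A')) (h := f)
    (h' := algebraMap A A' f) (algebraMap A A') rfl dvd_rfl
  have hαflat := flat_map_awayCompl _ (RingHom.flat_algebraMap_iff.mpr inferInstance) rfl dvd_rfl α hα
  haveI : ((RingHom.ker (Ideal.Quotient.mk Q'.asIdeal)).comap ψ').IsPrime := Ideal.comap_isPrime _ _
  have h2 : FlatAt (ψ'.comp α) (RingHom.ker (Ideal.Quotient.mk Q'.asIdeal)) :=
    flatAt_comp rfl (flatAt_of_flat α hαflat _) h1
  have k : ψ'.comp α = γ.comp ψ := map_hom_ext (algebraMap A B')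
    ((Ideal.map_map _ _).trans (congrArg (fun g => Ideal.map g I)
      (IsScalarTower.algebraMap_eq A A' B').symm) : J' = I.map (algebraMap A B')) (by
    rw [RingHom.comp_assoc, hα, ← RingHom.comp_assoc, hψ', RingHom.comp_assoc,
      ← IsScalarTower.algebraMap_eq]) (by
    rw [RingHom.comp_assoc, hψ, ← RingHom.comp_assoc, hγ, RingHom.comp_assoc, ← IsScalarTower.algebraMap_eq])
  rw [k] at h2
  exact flatAt_descend (by rw [Ideal.mk_ker]; exact hQ'q') h2 (flatAt_of_flat γ hγflat _)

omit [IsNoetherianRing A] in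
theorem formallyUnramified_quotient_awayCompl
    [Algebra.FormallyUnramified A (A' ⧸ I.map (algebraMap A A'))] (g : A')
    {R0 : Type u} [CommRing R0] [Algebra A R0] [Algebra R0 (AwayCompl (I.map (algebraMap A A')) g)]
    [IsScalarTower A R0 (AwayCompl (I.map (algebraMap A A')) g)] :
    Algebra.FormallyUnramified R0 (AwayCompl (I.map (algebraMap A A')) g ⧸
      I.map (algebraMap A (AwayCompl (I.map (algebraMap A A')) g))) := by
  let J := I.map (algebraMap A A')
  let R := AwayCompl J g
  let K := I.map (algebraMap A R)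
  haveI : IsScalarTower A R0 (R ⧸ K) := IsScalarTower.of_algebraMap_eq fun a =>
    congrArg (Ideal.Quotient.mk K) (IsScalarTower.algebraMap_apply A R0 R a)
  have eK : J.map (algebraMap A' R) = K := by
    exact (Ideal.map_map _ _).trans (congrArg (fun h => Ideal.map h I)
      (IsScalarTower.algebraMap_eq A A' R).symm)
  let ι : A' ⧸ J →ₐ[A] R ⧸ K := Ideal.quotientMapₐ K (IsScalarTower.toAlgHom A A' R)
    (Ideal.map_le_iff_le_comap.mp eK.le)
  let g0 := Ideal.Quotient.mk J g
  have hu : ∀ y : Submonoid.powers g0, IsUnit (ι y.1) := by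
    rintro ⟨y, k, rfl⟩
    rw [map_pow]
    exact ((isUnit_algebraMap_of_dvd (J := J) (dvd_refl g)).map (Ideal.Quotient.mk K)).pow k
  let e : Localization.Away g0 →ₐ[A] R ⧸ K := IsLocalization.liftAlgHom (S := Localization.Away g0) hu
  have he : Function.Surjective e := by
    intro y
    obtain ⟨x, rfl⟩ := Ideal.Quotient.mk_surjective y
    obtain ⟨b, k, hk⟩ := exists_approx_awayCompl J g x
    refine ⟨IsLocalization.mk' _ (Ideal.Quotient.mk J b) (⟨g0 ^ k, k, rfl⟩ : Submonoid.powers g0), ?_⟩
    have hu' : IsUnit (Ideal.Quotient.mk K (algebraMap A' R (g ^ k))) := by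
      rw [map_pow, map_pow]
      exact ((isUnit_algebraMap_of_dvd (J := J) (dvd_refl g)).map (Ideal.Quotient.mk K)).pow k
    rw [eK, ← Ideal.Quotient.eq, map_mul] at hk
    apply hu'.mul_right_cancel
    rw [hk]
    show IsLocalization.lift hu (IsLocalization.mk' _ _ _) * _ = _
    have h1 : ι (g0 ^ k) = Ideal.Quotient.mk K (algebraMap A' R (g ^ k)) := rfl
    rw [← h1, mul_comm]
    exact (IsLocalization.lift_mk'_spec hu (Ideal.Quotient.mk J b) _ _).mp rfl |>.symm
  haveI : Algebra.FormallyUnramified (A' ⧸ J) (Localization.Away g0) :=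
    Algebra.FormallyUnramified.of_isLocalization (Submonoid.powers g0)
  haveI : Algebra.FormallyUnramified A (Localization.Away g0) :=
    Algebra.FormallyUnramified.comp A (A' ⧸ J) _
  haveI : Algebra.FormallyUnramified A (R ⧸ K) := Algebra.FormallyUnramified.of_surjective e he
  exact Algebra.FormallyUnramified.of_restrictScalars A R0 _

/-- Rig-flatness passes to a base which is unramified modulo the ideal. -/
theorem rigFlat_of_unramified (hftB : Algebra.FiniteType A (B ⧸ I.map (algebraMap A B)))
    (hftA' : Algebra.FiniteType A (A' ⧸ I.map (algebraMap A A')))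
    (hftB'B : Algebra.FiniteType B (B' ⧸ I.map (algebraMap A B')))
    (hftB'A' : Algebra.FiniteType A' (B' ⧸ I.map (algebraMap A B')))
    [Module.Flat B B'] [Algebra.FormallyUnramified A (A' ⧸ I.map (algebraMap A A'))]
    (hAB : RigFlatHyp A B I) : RigFlatHyp A' B' (I.map (algebraMap A A')) := by
  have hAB' : RigFlatHyp A B' I := rigFlat_comp hftB hftB'B hAB rigFlat_of_flat
  refine RigFlatHyp.intro fun e ψe hψe r _ hp => ?_
  let J' := (I.map (algebraMap A A')).map (algebraMap A' B')
  have eJ : J' = I.map (algebraMap A B') :=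
    (Ideal.map_map _ _).trans (congrArg (fun g => Ideal.map g I) (IsScalarTower.algebraMap_eq A A' B').symm)
  let φ := Ideal.Quotient.mk r
  have hφfin : φ.Finite := RingHom.Finite.of_surjective _ Ideal.Quotient.mk_surjective
  let φ0 := φ.comp (algebraMap B' (AwayCompl J' (algebraMap A' B' e)))
  have hp0 : IsPt J' φ0 := hp.comp rfl
  have hp0' : IsPt (I.map (algebraMap A B')) φ0 := eJ ▸ hp0
  let φA' := φ0.comp (algebraMap A' B')
  have hpA' : IsPt (I.map (algebraMap A A')) φA' := hp0.comp rfl
  let φA := φA'.comp (algebraMap A A')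
  have hpA : IsPt I φA := hpA'.comp rfl
  have hftA'D : FTMod (I.map (algebraMap A A')) φA' := by
    have h0 : FTMod (I.map (algebraMap A A')) (algebraMap A' B') :=
      ftMod_algebraMap (by rw [show (I.map (algebraMap A A')).map (algebraMap A' B') = _ from eJ]; exact hftB'A')
    have h := (h0.awayCompl (J := J') rfl (algebraMap A' B' e)).comp_finite hφfin
    rwa [← RingHom.comp_assoc] at h
  obtain ⟨g0, hg0, hgfin⟩ := exists_away_finite hpA' hftA'D
  have hue : IsUnit (φA' e) := (isUnit_algebraMap_of_dvd dvd_rfl).map φ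
  let g := g0 * e
  have hug : IsUnit (φA' g) := by rw [map_mul]; exact hg0.mul hue
  obtain ⟨ρg, hρg⟩ := hpA'.exists_lift hug
  have hρgfin : ρg.Finite := hgfin g (dvd_mul_right _ _) ρg hρg
  have hftAD : FTMod I φA := by
    have h := ((ftMod_algebraMap hftA').awayCompl (J := I.map (algebraMap A A')) rfl g).comp_finite hρgfin
    rwa [← RingHom.comp_assoc, hρg] at h
  obtain ⟨f, hf, hffin⟩ := exists_away_finite hpA hftAD
  obtain ⟨ρf, hρf⟩ := hpA.exists_lift hf
  have hρffin : ρf.Finite := hffin f dvd_rfl ρf hρf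
  have hufB : IsUnit (φ0 (algebraMap A B' f)) := by
    rw [IsScalarTower.algebraMap_apply A A' B']; exact hf
  obtain ⟨φBf, hφBf⟩ := hp0'.exists_lift hufB
  obtain ⟨ψf, hψf⟩ := exists_map_awayCompl (J := I) (J' := I.map (algebraMap A B')) (h := f)
    (h' := algebraMap A B' f) (algebraMap A B') rfl dvd_rfl
  have eA : φ0.comp (algebraMap A B') = φA := by
    rw [IsScalarTower.algebraMap_eq A A' B']; rfl
  have ef : φBf.comp ψf = ρf := hpA.hom_ext (by
    rw [RingHom.comp_assoc, hψf, ← RingHom.comp_assoc, hφBf, eA]) hρf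
  have hφBffin : φBf.Finite := RingHom.Finite.of_comp_finite (f := ψf) (ef ▸ hρffin)
  have hpBf := hp0'.of_lift hφBf
  haveI := hpBf.isPrime_ker
  have h1 : FlatAt ψf (RingHom.ker φBf) := hAB'.flatAt hψf hpBf hφBffin
  let gf := g * algebraMap A A' f
  have hugf : IsUnit (φA' gf) := by rw [map_mul]; exact hug.mul hf
  obtain ⟨ρR, hρR⟩ := hpA'.exists_lift hugf
  obtain ⟨φS, hφS⟩ := hp0.exists_lift (h := algebraMap A' B' gf) hugf
  have hpS := hp0.of_lift hφS
  haveI := hpS.isPrime_ker
  have hpR := hpA'.of_lift hρR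
  haveI := hpR.isPrime_ker
  obtain ⟨β, hβ⟩ := exists_map_awayCompl (J := I.map (algebraMap A A')) (J' := J') (h := gf)
    (h' := algebraMap A' B' gf) (algebraMap A' B') rfl dvd_rfl
  have kβ : φS.comp β = ρR := hpA'.hom_ext (by
    rw [RingHom.comp_assoc, hβ, ← RingHom.comp_assoc, hφS]) hρR
  have hdA : algebraMap A A' f ∣ gf := dvd_mul_left _ _
  obtain ⟨α, hα⟩ := exists_map_awayCompl (J := I) (J' := I.map (algebraMap A A')) (h := f) (h' := gf)
    (algebraMap A A') rfl hdA
  have kα : ρR.comp α = ρf := hpA.hom_ext (by rw [RingHom.comp_assoc, hα, ← RingHom.comp_assoc, hρR]) hρf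
  have hd : algebraMap A B' f ∣ algebraMap A' B' gf := by
    rw [IsScalarTower.algebraMap_apply A A' B']; exact map_dvd _ hdA
  obtain ⟨δ, hδ⟩ := exists_map_awayCompl (J := I.map (algebraMap A B')) (J' := J') (h := algebraMap A B' f)
    (h' := algebraMap A' B' gf) (RingHom.id B') (by rw [Ideal.map_id, eJ]) hd
  have hδflat := flat_map_awayCompl _ (RingHom.Flat.id B') (by rw [Ideal.map_id, eJ]) hd δ hδ
  rw [RingHom.comp_id] at hδ
  have kδ : φS.comp δ = φBf := hp0'.hom_ext (by rw [RingHom.comp_assoc, hδ, hφS]) hφBf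
  have h2 : FlatAt (δ.comp ψf) (RingHom.ker φS) :=
    flatAt_comp (by rw [RingHom.comap_ker, kδ]) h1 (flatAt_of_flat δ hδflat _)
  have k1 : δ.comp ψf = β.comp α := map_hom_ext (algebraMap A B') eJ (by
    rw [RingHom.comp_assoc, hψf, ← RingHom.comp_assoc, hδ]) (by
    rw [RingHom.comp_assoc, hα, ← RingHom.comp_assoc, hβ, RingHom.comp_assoc, ← IsScalarTower.algebraMap_eq])
  rw [k1] at h2
  let R0 := AwayCompl I f
  let R := AwayCompl (I.map (algebraMap A A')) gf
  haveI : IsNoetherianRing R0 := isNoetherianRing_awayCompl _ _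
  haveI : IsNoetherianRing R := isNoetherianRing_awayCompl _ _
  haveI : IsNoetherianRing (AwayCompl J' (algebraMap A' B' gf)) := isNoetherianRing_awayCompl _ _
  haveI : IsAdicComplete (I.map (algebraMap A R0)) R0 := isAdicComplete_awayCompl _ _
  letI : Algebra R0 R := α.toAlgebra
  haveI : IsScalarTower A R0 R := IsScalarTower.of_algebraMap_eq' (by
    rw [RingHom.algebraMap_toAlgebra, hα, ← IsScalarTower.algebraMap_eq])
  have eR : (I.map (algebraMap A R0)).map (algebraMap R0 R) = I.map (algebraMap A R) :=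
    (Ideal.map_map _ _).trans (congrArg (fun g => Ideal.map g I) (IsScalarTower.algebraMap_eq A R0 R).symm)
  have eR' : I.map (algebraMap A R) = (I.map (algebraMap A A')).map (algebraMap A' R) := by
    exact ((Ideal.map_map _ _).trans (congrArg (fun h => Ideal.map h I)
      (IsScalarTower.algebraMap_eq A A' R).symm)).symm
  haveI : IsAdicComplete ((I.map (algebraMap A R0)).map (algebraMap R0 R)) R := by
    rw [eR, eR']; exact isAdicComplete_awayCompl _ _
  have hftR : Algebra.FiniteType R0 (R ⧸ (I.map (algebraMap A R0)).map (algebraMap R0 R)) := by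
    have h : FTMod I ((algebraMap A' R).comp (algebraMap A A')) :=
      (ftMod_algebraMap hftA').awayCompl (J := I.map (algebraMap A A')) rfl gf
    rw [show (algebraMap A' R).comp (algebraMap A A') = algebraMap A R from
      (IsScalarTower.algebraMap_eq A A' R).symm] at h
    haveI : Algebra.FiniteType A (R ⧸ I.map (algebraMap A R)) := RingHom.finiteType_algebraMap.mp h
    rw [eR]
    exact Algebra.FiniteType.of_restrictScalars_finiteType A _ _
  haveI : Algebra.FormallyUnramified R0 (R ⧸ (I.map (algebraMap A R0)).map (algebraMap R0 R)) := by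
    rw [eR]
    exact formallyUnramified_quotient_awayCompl gf
  have hpR0 := hpA.of_lift hρf
  have ekerR : (RingHom.ker ρR).comap α = RingHom.ker ρf := by rw [RingHom.comap_ker, kα]
  have hrig : RigClosed (I.map (algebraMap A R0))
      ⟨(RingHom.ker ρR).comap (algebraMap R0 R), Ideal.comap_isPrime _ _⟩ := by
    have h := hpR0.rigClosed hρffin
    have e : (⟨RingHom.ker ρf, hpR0.isPrime_ker⟩ : PrimeSpectrum R0) =
      ⟨(RingHom.ker ρR).comap (algebraMap R0 R), Ideal.comap_isPrime _ _⟩ := PrimeSpectrum.ext ekerR.symm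
    exact e ▸ h
  have hmax := map_comap_eq_maximalIdeal (I := I.map (algebraMap A R0)) hftR (RingHom.ker ρR) hrig
  have h3 : FlatAt β (RingHom.ker φS) := flatAt_of_map_eq (a := α) (b := β)
    (by rw [RingHom.comap_ker, kβ]) ((RingHom.ker ρR).comap α) hmax h2
  have hde : e ∣ gf := dvd_mul_of_dvd_left (dvd_mul_left _ _) _
  obtain ⟨κ, hκ⟩ := exists_map_awayCompl (J := I.map (algebraMap A A')) (J' := I.map (algebraMap A A'))
    (h := e) (h' := gf) (RingHom.id A') (Ideal.map_id _).symm hde
  have hκflat := flat_map_awayCompl _ (RingHom.Flat.id A') (Ideal.map_id _).symm hde κ hκ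
  rw [RingHom.comp_id] at hκ
  haveI : ((RingHom.ker φS).comap β).IsPrime := Ideal.comap_isPrime _ _
  have h4 : FlatAt (β.comp κ) (RingHom.ker φS) := flatAt_comp rfl (flatAt_of_flat κ hκflat _) h3
  obtain ⟨γ, hγ⟩ := exists_map_awayCompl (J := J') (J' := J') (h := algebraMap A' B' e)
    (h' := algebraMap A' B' gf) (RingHom.id B') (Ideal.map_id _).symm (map_dvd (algebraMap A' B') hde)
  have hγflat := flat_map_awayCompl _ (RingHom.Flat.id B') (Ideal.map_id _).symm (map_dvd (algebraMap A' B') hde) γ hγ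
  rw [RingHom.comp_id] at hγ
  have k2 : β.comp κ = γ.comp ψe := map_hom_ext (algebraMap A' B') (J := I.map (algebraMap A A')) (J' := J') rfl
    (by rw [RingHom.comp_assoc, hκ, hβ])
    (by rw [RingHom.comp_assoc, hψe, ← RingHom.comp_assoc, hγ])
  have k3 : φS.comp γ = φ := hp0.hom_ext (by rw [RingHom.comp_assoc, hγ, hφS]) rfl
  rw [k2] at h4
  exact flatAt_descend (by rw [RingHom.comap_ker, k3, Ideal.mk_ker]) h4 (flatAt_of_flat γ hγflat _)

end Square

end Groth.L05.Rig
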